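import Mathlib.GroupTheory.Subgroup.Center
import Mathlib.Logic.Function.Basic
import Mathlib.Algebra.Group.End
import Mathlib.Algebra.Ring.Parity
import Mathlib.Tactic.Group

/-!
# Conjugation by elements of the quotient in a central extension
-/

set_option autoImplicit false

namespace CfsgLib.J4Mult

/-- A central extension. -/
structure Cov (G : Type*) [Group G] (E : Type*) [Group E] where
  σ : E →* G
  surj : Function.Surjective σ
  cen : σ.ker ≤ Subgroup.center E

namespace Cov

variable {G E : Type*} [Group G] [Group E] (C : Cov G E)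

/-- A chosen preimage. -/
noncomputable def lift (g : G) : E := Function.surjInv C.surj g

theorem σ_lift (g : G) : C.σ (C.lift g) = g := Function.surjInv_eq C.surj g

/-- Conjugation by any preimage of g. -/
noncomputable def cj (g : G) : E →* E := (MulAut.conj (C.lift g)⁻¹).toMonoidHom

theorem cj_apply (g : G) (a : E) : C.cj g a = (C.lift g)⁻¹ * a * C.lift g := by
  simp [cj]

theorem conj_congr {d d' : E} (h : C.σ d = C.σ d') (a : E) : d⁻¹ * a * d = d'⁻¹ * a * d' := by
  have hz : d' * d⁻¹ ∈ C.σ.ker := by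
    rw [MonoidHom.mem_ker, map_mul, map_inv, h, mul_inv_cancel]
  have hc := Subgroup.mem_center_iff.1 (C.cen hz) a
  have e : d' = (d' * d⁻¹) * d := by group
  generalize d' * d⁻¹ = z at hc e
  subst e
  rw [mul_inv_rev, show d⁻¹ * z⁻¹ * a * (z * d) = d⁻¹ * z⁻¹ * (a * z) * d by group, hc]
  group

theorem cj_of {g : G} {d : E} (h : C.σ d = g) (a : E) : C.cj g a = d⁻¹ * a * d := by
  rw [cj_apply]
  exact C.conj_congr (by rw [C.σ_lift, h]) a

theorem σ_cj (g : G) (a : E) : C.σ (C.cj g a) = g⁻¹ * C.σ a * g := by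
  rw [cj_apply, map_mul, map_mul, map_inv, C.σ_lift]

theorem cj_mul (g h : G) (a : E) : C.cj (g * h) a = C.cj h (C.cj g a) := by
  rw [C.cj_of (d := C.lift g * C.lift h) (by rw [map_mul, C.σ_lift, C.σ_lift]), cj_apply, cj_apply]
  group

theorem cj_one (a : E) : C.cj 1 a = a := by
  rw [C.cj_of (map_one C.σ)]
  group

theorem fix_mul {g h : G} {a : E} (hg : C.cj g a = a) (hh : C.cj h a = a) : C.cj (g * h) a = a := by
  rw [cj_mul, hg, hh]

theorem fix_conj {c ci s : G} {a b : E} (hc : ci * c = 1) (ha : C.cj c b = a) (hs : C.cj s b = b) :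
    C.cj (ci * s * c) a = a := by
  have : C.cj ci a = b := by
    rw [← ha, ← cj_mul, show c * ci = 1 from mul_eq_one_comm.1 hc, cj_one]
  rw [cj_mul, cj_mul, this, hs, ha]

theorem commute_of_fix {g : G} {a d : E} (h : C.cj g a = a) (hd : C.σ d = g) : a * d = d * a := by
  rw [C.cj_of hd] at h
  calc a * d = d * (d⁻¹ * a * d) := by group
    _ = d * a := by rw [h]

theorem fix_of_commute {g : G} {a d : E} (hd : C.σ d = g) (h : a * d = d * a) : C.cj g a = a := by
  rw [C.cj_of hd, mul_assoc, h]
  group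

/-- An involution is fixed by each element of odd order that centralises its image. -/
theorem fix_odd {k : G} {n : ℕ} {a : E} (hn : Odd n) (hk : k ^ n = 1) (ha : a * a = 1)
    (hcm : C.σ a * k = k * C.σ a) : C.cj k a = a := by
  obtain ⟨z, hz, hzc⟩ : ∃ z ∈ C.σ.ker, C.cj k a = a * z := by
    refine ⟨a⁻¹ * C.cj k a, ?_, by group⟩
    rw [MonoidHom.mem_ker, map_mul, map_inv, C.σ_cj, mul_assoc k⁻¹, hcm]
    group
  have hzc' := Subgroup.mem_center_iff.1 (C.cen hz)
  have hpow : ∀ j : ℕ, C.cj (k ^ j) a = a * z ^ j := by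
    intro j
    induction j with
    | zero => rw [pow_zero, pow_zero, mul_one, cj_one]
    | succ j ih =>
      have hz0 : C.cj k z = z := by
        rw [cj_apply, mul_assoc, ← hzc' (C.lift k), inv_mul_cancel_left]
      rw [pow_succ, cj_mul, ih, map_mul, hzc, map_pow, hz0, pow_succ', mul_assoc]
  have hzn : z ^ n = 1 := by
    have := hpow n
    rw [hk, cj_one] at this
    exact mul_left_cancel ((this.symm).trans (mul_one a).symm)
  have hz2 : z ^ 2 = 1 := by
    have e : C.cj k a * C.cj k a = 1 := by rw [← map_mul, ha, map_one]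
    rw [hzc, mul_assoc, ← mul_assoc z, ← hzc' a, mul_assoc a z, ← mul_assoc, ha, one_mul, ← pow_two] at e
    exact e
  obtain ⟨m, rfl⟩ := hn
  rw [pow_succ, pow_mul, hz2, one_pow, one_mul] at hzn
  rw [hzc, hzn, mul_one]

end Cov

end CfsgLib.J4Mult
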