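import Cfsg.Agent.S1711
import Cfsg.Agent.Lib.Schur.Trivial
import Cfsg.Agent.Lib.J4Mult.Cj

/-!
# Exact preimages of the Mathieu subgroup in a central extension
-/

set_option autoImplicit false

namespace CfsgLib.J4Mult

open Subgroup Cfsg.Spor CfsgLib.J4P CfsgLib.HNxyz
open scoped commutatorElement

/-- The subgroup on x and y. -/
def pXY : Subgroup Cfsg.Spor.J4 :=
  closure {PresentedGroup.of J4.Gen.x, PresentedGroup.of J4.Gen.y}

/-- x in the subgroup. -/
def px0 : ↥pXY := ⟨_, subset_closure (Set.mem_insert _ _)⟩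
/-- y in the subgroup. -/
def py0 : ↥pXY := ⟨_, subset_closure (Set.mem_insert_of_mem _ rfl)⟩

theorem top_pXY : closure {px0, py0} = ⊤ := by
  refine map_injective pXY.subtype_injective ?_
  rw [MonoidHom.map_closure, ← MonoidHom.range_eq_map, range_subtype, Set.image_insert_eq,
    Set.image_singleton]
  rfl

theorem rels_pXY : BaseRels px0 py0 := fun w hw =>
  Subtype.ext ((map_evalW pXY.subtype [px0, py0] w).trans (xy_rels w hw))

theorem commutator_pXY : commutator ↥pXY = ⊤ := eq_top_iff.2 fun s _ =>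
  (QuotientGroup.eq_one_iff s).1 (perfect rels_pXY top_pXY (QuotientGroup.mk' (commutator ↥pXY))
    (fun u v => (Abelianization.commGroup ↥pXY).mul_comm u v) s)

theorem pXY_iso : Nonempty (↥pXY ≃* ↥Cfsg.M24) := by
  obtain ⟨e⟩ := Cfsg.Agent.S1711.result
  refine ⟨(MulEquiv.subgroupCongr ?_).trans e⟩
  rw [MonoidHom.map_closure, Set.image_insert_eq, Set.image_singleton]
  rfl

/-- The preimage of the Mathieu subgroup has an exact copy of it. -/
theorem exists_delta {E : Type} [Group E] (C : Cov Cfsg.Spor.J4 E) :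
    ∃ δ : ↥pXY →* E, ∀ p, C.σ (δ p) = p := by
  obtain ⟨e⟩ := pXY_iso
  let H : Subgroup E := pXY.comap C.σ
  let D : Subgroup E := ⁅H, H⁆
  have hmap : D.map C.σ = pXY := by
    rw [map_commutator, map_comap_eq_self_of_surjective C.surj, ← map_subtype_commutator,
      commutator_pXY, ← MonoidHom.range_eq_map, range_subtype]
  have hperf : commutator ↥D = ⊤ := by
    refine map_injective D.subtype_injective ?_
    rw [map_subtype_commutator, ← MonoidHom.range_eq_map, range_subtype]
    refine le_antisymm (commutator_le.2 fun a ha b hb => ?_) (commutator_le.2 fun a ha b hb => ?_)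
    · exact mul_mem (mul_mem (mul_mem ha hb) (inv_mem ha)) (inv_mem hb)
    · have key : ∀ a ∈ H, ∃ d ∈ D, ∃ z ∈ center E, a = d * z := by
        intro a ha
        have : C.σ a ∈ D.map C.σ := hmap ▸ ha
        obtain ⟨d, hd, hda⟩ := this
        exact ⟨d, hd, d⁻¹ * a, C.cen (by rw [MonoidHom.mem_ker, map_mul, map_inv, hda,
          inv_mul_cancel]), (mul_inv_cancel_left d a).symm⟩
      obtain ⟨d, hd, z, hz, rfl⟩ := key a ha
      obtain ⟨d', hd', z', hz', rfl⟩ := key b hb
      have e1 : ⁅d * z, d' * z'⁆ = ⁅d, d'⁆ := by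
        have cz := mem_center_iff.1 hz
        have cz' := mem_center_iff.1 hz'
        rw [commutatorElement_def, commutatorElement_def]
        calc d * z * (d' * z') * (d * z)⁻¹ * (d' * z')⁻¹
            = d * (z * (d' * z')) * z⁻¹ * d⁻¹ * z'⁻¹ * d'⁻¹ := by group
          _ = d * d' * (z' * d⁻¹) * z'⁻¹ * d'⁻¹ := by rw [← cz]; group
          _ = d * d' * d⁻¹ * d'⁻¹ := by rw [← cz']; group
      rw [e1]
      exact commutator_mem_commutator hd hd'
  let τ : ↥D →* ↥pXY := (C.σ.comp D.subtype).codRestrict pXY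
    fun d => hmap ▸ mem_map_of_mem C.σ d.2
  have hsur : Function.Surjective τ := fun p => by
    have : (p : Cfsg.Spor.J4) ∈ D.map C.σ := hmap.symm ▸ p.2
    obtain ⟨d, hd, hdp⟩ := this
    exact ⟨⟨d, hd⟩, Subtype.ext hdp⟩
  haveI : Finite ↥Cfsg.M24 := Nat.finite_of_card_ne_zero (by rw [CfsgLib.Golay.card_M24]; norm_num)
  have hstem : Cfsg.IsStemExtension (e.toMonoidHom.comp τ) := by
    refine ⟨e.surjective.comp hsur, fun d hd => ?_, by rw [hperf]; exact le_top⟩
    rw [MonoidHom.mem_ker, MonoidHom.comp_apply, MulEquiv.coe_toMonoidHom,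
      MulEquiv.map_eq_one_iff] at hd
    refine mem_center_iff.2 fun d' => Subtype.ext (mem_center_iff.1 (C.cen ?_) d')
    exact congrArg Subtype.val hd
  have hinj := CfsgLib.Schur.injective_of_trivial CfsgLib.Schur.Tails.multiplier_M24 _ hstem
  have hb : Function.Bijective τ := ⟨fun a b h => hinj (congrArg e h), hsur⟩
  refine ⟨D.subtype.comp (MulEquiv.ofBijective τ hb).symm.toMonoidHom, fun p => ?_⟩
  exact congrArg Subtype.val ((MulEquiv.ofBijective τ hb).apply_symm_apply p)

end CfsgLib.J4Mult
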