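import Cfsg.Agent.Lib.J4Mult.Eval

/-!
# Equations between the elements of the program
-/

set_option autoImplicit false
set_option maxRecDepth 100000

namespace CfsgLib.J4Mult

open CfsgLib.J4P

theorem g_sv : g sv = (g sy)⁻¹ := by
  show (runG prog jBase).getD 2 1 = ((runG prog jBase).getD 1 1)⁻¹
  rw [runG_prefix prog jBase 2 (by simp [jBase]), runG_prefix prog jBase 1 (by simp [jBase])]
  rfl

theorem g_sx : g sx = PresentedGroup.of Cfsg.Spor.J4.Gen.x :=
  runG_prefix prog jBase 0 (by simp [jBase])

theorem g_sy : g sy = PresentedGroup.of Cfsg.Spor.J4.Gen.y :=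
  runG_prefix prog jBase 1 (by simp [jBase])

theorem g_st : g st = PresentedGroup.of Cfsg.Spor.J4.Gen.t :=
  runG_prefix prog jBase 3 (by simp [jBase])

theorem e_hh (hinj : Function.Injective rho) :
    g shi * g sh = 1 := by
  have h := rel hinj (a := [shi, sh]) (b := []) (by decide +kernel)
  simpa [mul_assoc] using h

theorem e_hh2 (hinj : Function.Injective rho) :
    g sh * g shi = 1 := by
  have h := rel hinj (a := [sh, shi]) (b := []) (by decide +kernel)
  simpa [mul_assoc] using h

theorem e_xx (hinj : Function.Injective rho) :
    g sx * g sx = 1 := by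
  have h := rel hinj (a := [sx, sx]) (b := []) (by decide +kernel)
  simpa [mul_assoc] using h

theorem e_ii (hinj : Function.Injective rho) :
    g si * g si = 1 := by
  have h := rel hinj (a := [si, si]) (b := []) (by decide +kernel)
  simpa [mul_assoc] using h

theorem e_tdef (hinj : Function.Injective rho) :
    g sh * g si * g shi = g st := by
  have h := rel hinj (a := [sh, si, shi]) (b := [st]) (by decide +kernel)
  simpa [mul_assoc] using h

theorem e_xt_split (hinj : Function.Injective rho) :
    g st = g sMX * g sRX := by
  have h := rel hinj (a := [st]) (b := [sMX, sRX]) (by decide +kernel)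
  simpa [mul_assoc] using h

theorem e_xt_m (hinj : Function.Injective rho) :
    g sx * g sMX = g sMX * g sx := by
  have h := rel hinj (a := [sx, sMX]) (b := [sMX, sx]) (by decide +kernel)
  simpa [mul_assoc] using h

theorem e_xt_r (hinj : Function.Injective rho) :
    g sx * g sRX = g sRX * g sx := by
  have h := rel hinj (a := [sx, sRX]) (b := [sRX, sx]) (by decide +kernel)
  simpa [mul_assoc] using h

theorem e_xt_pow (hinj : Function.Injective rho) :
    g sRX ^ 11 = 1 := by
  have h := rel hinj (a := List.replicate 11 sRX) (b := []) (by decide +kernel)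
  rw [List.map_replicate, List.prod_replicate, List.map_nil, List.prod_nil] at h
  exact h

theorem e_wx_m (hinj : Function.Injective rho) :
    g si * g sMwx = g sMwx * g si := by
  have h := rel hinj (a := [si, sMwx]) (b := [sMwx, si]) (by decide +kernel)
  simpa [mul_assoc] using h

theorem e_wx_split (hinj : Function.Injective rho) :
    g sKW = g sMwx * g sRwx := by
  have h := rel hinj (a := [sKW]) (b := [sMwx, sRwx]) (by decide +kernel)
  simpa [mul_assoc] using h

theorem e_wx_r (hinj : Function.Injective rho) :
    g si * g sRwx = g sRwx * g si := by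
  have h := rel hinj (a := [si, sRwx]) (b := [sRwx, si]) (by decide +kernel)
  simpa [mul_assoc] using h

theorem e_wx_pow (hinj : Function.Injective rho) :
    g sRwx ^ 21 = 1 := by
  have h := rel hinj (a := List.replicate 21 sRwx) (b := []) (by decide +kernel)
  rw [List.map_replicate, List.prod_replicate, List.map_nil, List.prod_nil] at h
  exact h

theorem e_kw (hinj : Function.Injective rho) :
    g sW = g sh * g sKW * g shi * g sx := by
  have h := rel hinj (a := [sW]) (b := [sh, sKW, shi, sx]) (by decide +kernel)
  simpa [mul_assoc] using h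

theorem e_A_m (hinj : Function.Injective rho) :
    g si * g sMA = g sMA * g si := by
  have h := rel hinj (a := [si, sMA]) (b := [sMA, si]) (by decide +kernel)
  simpa [mul_assoc] using h

theorem e_A_split (hinj : Function.Injective rho) :
    g sKA = g sMA * g sxi * g sRA := by
  have h := rel hinj (a := [sKA]) (b := [sMA, sxi, sRA]) (by decide +kernel)
  simpa [mul_assoc] using h

theorem e_A_r (hinj : Function.Injective rho) :
    g si * g sRA = g sRA * g si := by
  have h := rel hinj (a := [si, sRA]) (b := [sRA, si]) (by decide +kernel)
  simpa [mul_assoc] using h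

theorem e_A_pow (hinj : Function.Injective rho) :
    g sRA ^ 21 = 1 := by
  have h := rel hinj (a := List.replicate 21 sRA) (b := []) (by decide +kernel)
  rw [List.map_replicate, List.prod_replicate, List.map_nil, List.prod_nil] at h
  exact h

theorem e_ka (hinj : Function.Injective rho) :
    g sA = g sh * g sKA * g shi := by
  have h := rel hinj (a := [sA]) (b := [sh, sKA, shi]) (by decide +kernel)
  simpa [mul_assoc] using h

theorem e_j1_m (hinj : Function.Injective rho) :
    g si * g sMj1 = g sMj1 * g si := by
  have h := rel hinj (a := [si, sMj1]) (b := [sMj1, si]) (by decide +kernel)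
  simpa [mul_assoc] using h

theorem e_j1_split (hinj : Function.Injective rho) :
    g sJ1 = g sMj1 * g sRj1 := by
  have h := rel hinj (a := [sJ1]) (b := [sMj1, sRj1]) (by decide +kernel)
  simpa [mul_assoc] using h

theorem e_j1_r (hinj : Function.Injective rho) :
    g si * g sRj1 = g sRj1 * g si := by
  have h := rel hinj (a := [si, sRj1]) (b := [sRj1, si]) (by decide +kernel)
  simpa [mul_assoc] using h

theorem e_j1_pow (hinj : Function.Injective rho) :
    g sRj1 ^ 15 = 1 := by
  have h := rel hinj (a := List.replicate 15 sRj1) (b := []) (by decide +kernel)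
  rw [List.map_replicate, List.prod_replicate, List.map_nil, List.prod_nil] at h
  exact h

theorem e_g0 (hinj : Function.Injective rho) :
    g sG0i * g sG0 = 1 := by
  have h := rel hinj (a := [sG0i, sG0]) (b := []) (by decide +kernel)
  simpa [mul_assoc] using h

theorem e_q1 (hinj : Function.Injective rho) :
    g sQ1i * g sQ1 = 1 := by
  have h := rel hinj (a := [sQ1i, sQ1]) (b := []) (by decide +kernel)
  simpa [mul_assoc] using h

theorem e_q1b (hinj : Function.Injective rho) :
    g sQ1 * g sQ1i = 1 := by
  have h := rel hinj (a := [sQ1, sQ1i]) (b := []) (by decide +kernel)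
  simpa [mul_assoc] using h

theorem e_q1d (hinj : Function.Injective rho) :
    g sQ1 = g shi * g su := by
  have h := rel hinj (a := [sQ1]) (b := [shi, su]) (by decide +kernel)
  simpa [mul_assoc] using h

theorem e_k1_pow (hinj : Function.Injective rho) :
    g sk1 ^ 5 = 1 := by
  have h := rel hinj (a := List.replicate 5 sk1) (b := []) (by decide +kernel)
  rw [List.map_replicate, List.prod_replicate, List.map_nil, List.prod_nil] at h
  exact h

theorem e_k1_c (hinj : Function.Injective rho) :
    g si * g sk1 = g sk1 * g si := by
  have h := rel hinj (a := [si, sk1]) (b := [sk1, si]) (by decide +kernel)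
  simpa [mul_assoc] using h

theorem e_k1_a (hinj : Function.Injective rho) :
    g sQa * g sg1 = g sk1 := by
  have h := rel hinj (a := [sQa, sg1]) (b := [sk1]) (by decide +kernel)
  simpa [mul_assoc] using h

theorem e_k1_b (hinj : Function.Injective rho) :
    g sQu * g sg1 = g sl1 * g sr1 := by
  have h := rel hinj (a := [sQu, sg1]) (b := [sl1, sr1]) (by decide +kernel)
  simpa [mul_assoc] using h

theorem e_r1 (hinj : Function.Injective rho) :
    g sr1i * g sr1 = 1 := by
  have h := rel hinj (a := [sr1i, sr1]) (b := []) (by decide +kernel)
  simpa [mul_assoc] using h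

theorem e_l1_m (hinj : Function.Injective rho) :
    g si * g sMl1 = g sMl1 * g si := by
  have h := rel hinj (a := [si, sMl1]) (b := [sMl1, si]) (by decide +kernel)
  simpa [mul_assoc] using h

theorem e_l1_split (hinj : Function.Injective rho) :
    g sl1 = g sMl1 * g sRl1 := by
  have h := rel hinj (a := [sl1]) (b := [sMl1, sRl1]) (by decide +kernel)
  simpa [mul_assoc] using h

theorem e_l1_r (hinj : Function.Injective rho) :
    g si * g sRl1 = g sRl1 * g si := by
  have h := rel hinj (a := [si, sRl1]) (b := [sRl1, si]) (by decide +kernel)
  simpa [mul_assoc] using h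

theorem e_l1_pow (hinj : Function.Injective rho) :
    g sRl1 ^ 5 = 1 := by
  have h := rel hinj (a := List.replicate 5 sRl1) (b := []) (by decide +kernel)
  rw [List.map_replicate, List.prod_replicate, List.map_nil, List.prod_nil] at h
  exact h

theorem e_k2_pow (hinj : Function.Injective rho) :
    g sk2 ^ 5 = 1 := by
  have h := rel hinj (a := List.replicate 5 sk2) (b := []) (by decide +kernel)
  rw [List.map_replicate, List.prod_replicate, List.map_nil, List.prod_nil] at h
  exact h

theorem e_k2_c (hinj : Function.Injective rho) :
    g si * g sk2 = g sk2 * g si := by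
  have h := rel hinj (a := [si, sk2]) (b := [sk2, si]) (by decide +kernel)
  simpa [mul_assoc] using h

theorem e_k2_a (hinj : Function.Injective rho) :
    g shi * g sg2 = g sk2 := by
  have h := rel hinj (a := [shi, sg2]) (b := [sk2]) (by decide +kernel)
  simpa [mul_assoc] using h

theorem e_k2_b (hinj : Function.Injective rho) :
    g sHq * g sg2 = g sl2 * g sr2 := by
  have h := rel hinj (a := [sHq, sg2]) (b := [sl2, sr2]) (by decide +kernel)
  simpa [mul_assoc] using h

theorem e_r2 (hinj : Function.Injective rho) :
    g sr2i * g sr2 = 1 := by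
  have h := rel hinj (a := [sr2i, sr2]) (b := []) (by decide +kernel)
  simpa [mul_assoc] using h

theorem e_l2_m (hinj : Function.Injective rho) :
    g si * g sMl2 = g sMl2 * g si := by
  have h := rel hinj (a := [si, sMl2]) (b := [sMl2, si]) (by decide +kernel)
  simpa [mul_assoc] using h

theorem e_l2_split (hinj : Function.Injective rho) :
    g sl2 = g sMl2 * g sRl2 := by
  have h := rel hinj (a := [sl2]) (b := [sMl2, sRl2]) (by decide +kernel)
  simpa [mul_assoc] using h

theorem e_l2_r (hinj : Function.Injective rho) :
    g si * g sRl2 = g sRl2 * g si := by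
  have h := rel hinj (a := [si, sRl2]) (b := [sRl2, si]) (by decide +kernel)
  simpa [mul_assoc] using h

theorem e_l2_pow (hinj : Function.Injective rho) :
    g sRl2 ^ 15 = 1 := by
  have h := rel hinj (a := List.replicate 15 sRl2) (b := []) (by decide +kernel)
  rw [List.map_replicate, List.prod_replicate, List.map_nil, List.prod_nil] at h
  exact h

theorem e_c1 (hinj : Function.Injective rho) :
    g sci * g sc = 1 := by
  have h := rel hinj (a := [sci, sc]) (b := []) (by decide +kernel)
  simpa [mul_assoc] using h

theorem e_a1c (hinj : Function.Injective rho) :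
    g sa1 = g sci * g si * g sc := by
  have h := rel hinj (a := [sa1]) (b := [sci, si, sc]) (by decide +kernel)
  simpa [mul_assoc] using h

theorem e_S0_m (hinj : Function.Injective rho) :
    g si * g sS0 = g sS0 * g si := by
  have h := rel hinj (a := [si, sS0]) (b := [sS0, si]) (by decide +kernel)
  simpa [mul_assoc] using h

theorem e_S2_m (hinj : Function.Injective rho) :
    g si * g sS2 = g sS2 * g si := by
  have h := rel hinj (a := [si, sS2]) (b := [sS2, si]) (by decide +kernel)
  simpa [mul_assoc] using h

theorem e_kdef (hinj : Function.Injective rho) :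
    g sk = g sci * g sS0 * g sc * g sci * g sxi * g sc * g sci * g sS2 * g sc := by
  have h := rel hinj (a := [sk]) (b := [sci, sS0, sc, sci, sxi, sc, sci, sS2, sc]) (by decide +kernel)
  simpa [mul_assoc] using h

theorem e_m0 (hinj : Function.Injective rho) :
    g sm0i * g sm0 = 1 := by
  have h := rel hinj (a := [sm0i, sm0]) (b := []) (by decide +kernel)
  simpa [mul_assoc] using h

theorem e_Gla (hinj : Function.Injective rho) :
    g sG = g sla * g sm0 := by
  have h := rel hinj (a := [sG]) (b := [sla, sm0]) (by decide +kernel)
  simpa [mul_assoc] using h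

theorem e_ca (hinj : Function.Injective rho) :
    g scai * g sca = 1 := by
  have h := rel hinj (a := [scai, sca]) (b := []) (by decide +kernel)
  simpa [mul_assoc] using h

theorem e_a0c (hinj : Function.Injective rho) :
    g sA0 = g scai * g si * g sca := by
  have h := rel hinj (a := [sA0]) (b := [scai, si, sca]) (by decide +kernel)
  simpa [mul_assoc] using h

theorem e_la_m (hinj : Function.Injective rho) :
    g si * g sMla = g sMla * g si := by
  have h := rel hinj (a := [si, sMla]) (b := [sMla, si]) (by decide +kernel)
  simpa [mul_assoc] using h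

theorem e_la_split (hinj : Function.Injective rho) :
    g sla = g scai * g sMla * g sxi * g sca * g sRla := by
  have h := rel hinj (a := [sla]) (b := [scai, sMla, sxi, sca, sRla]) (by decide +kernel)
  simpa [mul_assoc] using h

theorem e_la_r (hinj : Function.Injective rho) :
    g sA0 * g sRla = g sRla * g sA0 := by
  have h := rel hinj (a := [sA0, sRla]) (b := [sRla, sA0]) (by decide +kernel)
  simpa [mul_assoc] using h

theorem e_la_pow (hinj : Function.Injective rho) :
    g sRla ^ 7 = 1 := by
  have h := rel hinj (a := List.replicate 7 sRla) (b := []) (by decide +kernel)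
  rw [List.map_replicate, List.prod_replicate, List.map_nil, List.prod_nil] at h
  exact h

theorem e_m4 (hinj : Function.Injective rho) :
    g sm4i * g sm4 = 1 := by
  have h := rel hinj (a := [sm4i, sm4]) (b := []) (by decide +kernel)
  simpa [mul_assoc] using h

theorem e_Gl4 (hinj : Function.Injective rho) :
    g sG = g sg2 * g sl4 * g sm4 := by
  have h := rel hinj (a := [sG]) (b := [sg2, sl4, sm4]) (by decide +kernel)
  simpa [mul_assoc] using h

theorem e_cb (hinj : Function.Injective rho) :
    g scbi * g scb = 1 := by
  have h := rel hinj (a := [scbi, scb]) (b := []) (by decide +kernel)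
  simpa [mul_assoc] using h

theorem e_a2c (hinj : Function.Injective rho) :
    g sa2 = g scbi * g si * g scb := by
  have h := rel hinj (a := [sa2]) (b := [scbi, si, scb]) (by decide +kernel)
  simpa [mul_assoc] using h

theorem e_l4_m (hinj : Function.Injective rho) :
    g si * g sMl4 = g sMl4 * g si := by
  have h := rel hinj (a := [si, sMl4]) (b := [sMl4, si]) (by decide +kernel)
  simpa [mul_assoc] using h

theorem e_l4_split (hinj : Function.Injective rho) :
    g sl4 = g scbi * g sMl4 * g scb * g sRl4 := by
  have h := rel hinj (a := [sl4]) (b := [scbi, sMl4, scb, sRl4]) (by decide +kernel)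
  simpa [mul_assoc] using h

theorem e_l4_r (hinj : Function.Injective rho) :
    g sa2 * g sRl4 = g sRl4 * g sa2 := by
  have h := rel hinj (a := [sa2, sRl4]) (b := [sRl4, sa2]) (by decide +kernel)
  simpa [mul_assoc] using h

theorem e_l4_pow (hinj : Function.Injective rho) :
    g sRl4 ^ 7 = 1 := by
  have h := rel hinj (a := List.replicate 7 sRl4) (b := []) (by decide +kernel)
  rw [List.map_replicate, List.prod_replicate, List.map_nil, List.prod_nil] at h
  exact h

theorem e_final (hinj : Function.Injective rho) :
    g sm0i * g sA0 * g sm0 * g sa1 = g sm4i * g sa2 * g sm4 := by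
  have h := rel hinj (a := [sm0i, sA0, sm0, sa1]) (b := [sm4i, sa2, sm4]) (by decide +kernel)
  simpa [mul_assoc] using h

theorem e_qu_eq (hinj : Function.Injective rho) :
    g sQu = g shi * g sw := by
  have h := rel hinj (a := [sQu]) (b := [shi, sw]) (by decide +kernel)
  simpa [mul_assoc] using h

theorem e_qa_eq (hinj : Function.Injective rho) :
    g sQa = g shi * g sw * g sA := by
  have h := rel hinj (a := [sQa]) (b := [shi, sw, sA]) (by decide +kernel)
  simpa [mul_assoc] using h

theorem e_hq_eq (hinj : Function.Injective rho) :
    g sHq = g shi * g stv := by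
  have h := rel hinj (a := [sHq]) (b := [shi, stv]) (by decide +kernel)
  simpa [mul_assoc] using h

theorem e_g1k (hinj : Function.Injective rho) :
    g sG = g sg1 * g sk := by
  have h := rel hinj (a := [sG]) (b := [sg1, sk]) (by decide +kernel)
  simpa [mul_assoc] using h

theorem e_tv (hinj : Function.Injective rho) :
    g stv = g swi * g st * g sw := by
  have h := rel hinj (a := [stv]) (b := [swi, st, sw]) (by decide +kernel)
  simpa [mul_assoc] using h

theorem e_A0 (hinj : Function.Injective rho) :
    g sA0 = g sA * g sA := by
  have h := rel hinj (a := [sA0]) (b := [sA, sA]) (by decide +kernel)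
  simpa [mul_assoc] using h

theorem e_uu (hinj : Function.Injective rho) :
    g sui * g su = 1 := by
  have h := rel hinj (a := [sui, su]) (b := []) (by decide +kernel)
  simpa [mul_assoc] using h

theorem e_ww (hinj : Function.Injective rho) :
    g swi * g sw = 1 := by
  have h := rel hinj (a := [swi, sw]) (b := []) (by decide +kernel)
  simpa [mul_assoc] using h

theorem e_AA (hinj : Function.Injective rho) :
    g sAi * g sA = 1 := by
  have h := rel hinj (a := [sAi, sA]) (b := []) (by decide +kernel)
  simpa [mul_assoc] using h

theorem e_def_su (hinj : Function.Injective rho) :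
    g su = g sy * g sx * g sv * g sx * g sy * g sx * g sv * g sx := by
  have h := rel hinj (a := [su]) (b := [sy, sx, sv, sx, sy, sx, sv, sx]) (by decide +kernel)
  simpa [mul_assoc] using h

theorem e_def_sw (hinj : Function.Injective rho) :
    g sw = g sx * g sy * g sx * g sy * g sx * g sy * g sy * g sx * g sy * g sx * g sy * g sx * g sy * g sx * g sy * g sx * g sy * g sx * g sy * g sy := by
  have h := rel hinj (a := [sw]) (b := [sx, sy, sx, sy, sx, sy, sy, sx, sy, sx, sy, sx, sy, sx, sy, sx, sy, sx, sy, sy]) (by decide +kernel)
  simpa [mul_assoc] using h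

theorem e_def_stv (hinj : Function.Injective rho) :
    g stv = g swi * g st * g sw := by
  have h := rel hinj (a := [stv]) (b := [swi, st, sw]) (by decide +kernel)
  simpa [mul_assoc] using h

theorem e_def_sA1 (hinj : Function.Injective rho) :
    g sA1 = g sy * g sx * g sy * g sx * g sy * g sx * g sy := by
  have h := rel hinj (a := [sA1]) (b := [sy, sx, sy, sx, sy, sx, sy]) (by decide +kernel)
  simpa [mul_assoc] using h

theorem e_def_sA (hinj : Function.Injective rho) :
    g sA = g sA1 ^ 3 := by
  have h := rel hinj (a := [sA]) (b := [sA1, sA1, sA1]) (by decide +kernel)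
  simpa [mul_assoc, pow_succ] using h

theorem e_def_sW (hinj : Function.Injective rho) :
    g sW = g sy * g sx * g sy * g sx * g sv * g sx * g sv * g sx * g sy * g sx * g sy * g sx * g sy := by
  have h := rel hinj (a := [sW]) (b := [sy, sx, sy, sx, sv, sx, sv, sx, sy, sx, sy, sx, sy]) (by decide +kernel)
  simpa [mul_assoc] using h

theorem e_def_sxi (hinj : Function.Injective rho) :
    g sxi = g shi * g sx * g sh := by
  have h := rel hinj (a := [sxi]) (b := [shi, sx, sh]) (by decide +kernel)
  simpa [mul_assoc] using h

theorem e_def_sKW (hinj : Function.Injective rho) :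
    g sKW = g shi * g sW * g sx * g sh := by
  have h := rel hinj (a := [sKW]) (b := [shi, sW, sx, sh]) (by decide +kernel)
  simpa [mul_assoc] using h

theorem e_def_sKA (hinj : Function.Injective rho) :
    g sKA = g shi * g sA * g sh := by
  have h := rel hinj (a := [sKA]) (b := [shi, sA, sh]) (by decide +kernel)
  simpa [mul_assoc] using h

theorem e_def_sG0 (hinj : Function.Injective rho) :
    g sG0 = g sQ1 * g sy * g sQ1i := by
  have h := rel hinj (a := [sG0]) (b := [sQ1, sy, sQ1i]) (by decide +kernel)
  simpa [mul_assoc] using h

theorem e_def_sG0i (hinj : Function.Injective rho) :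
    g sG0i = g sQ1 * g sv * g sQ1i := by
  have h := rel hinj (a := [sG0i]) (b := [sQ1, sv, sQ1i]) (by decide +kernel)
  simpa [mul_assoc] using h

theorem e_def_sJ1 (hinj : Function.Injective rho) :
    g sJ1 = g sG0i * g si * g sG0 := by
  have h := rel hinj (a := [sJ1]) (b := [sG0i, si, sG0]) (by decide +kernel)
  simpa [mul_assoc] using h

theorem e_def_sHq (hinj : Function.Injective rho) :
    g sHq = g shi * g stv := by
  have h := rel hinj (a := [sHq]) (b := [shi, stv]) (by decide +kernel)
  simpa [mul_assoc] using h

theorem e_def_sg1 (hinj : Function.Injective rho) :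
    g sg1 = g sQai * g sk1 := by
  have h := rel hinj (a := [sg1]) (b := [sQai, sk1]) (by decide +kernel)
  simpa [mul_assoc] using h

theorem e_def_sa1 (hinj : Function.Injective rho) :
    g sa1 = g si * g sr1i * g si * g sr1 := by
  have h := rel hinj (a := [sa1]) (b := [si, sr1i, si, sr1]) (by decide +kernel)
  simpa [mul_assoc] using h

theorem e_def_sa2 (hinj : Function.Injective rho) :
    g sa2 = g si * g sr2i * g si * g sr2 := by
  have h := rel hinj (a := [sa2]) (b := [si, sr2i, si, sr2]) (by decide +kernel)
  simpa [mul_assoc] using h

theorem e_eleven (hinj : Function.Injective rho) :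
    g sy * g sQ1i * g si * g sQ1 * g sy * g sQ1i * g si * g sQ1 * g sy * g sQ1i * g si * g sQ1 = 1 := by
  have h := rel hinj (a := [sy, sQ1i, si, sQ1, sy, sQ1i, si, sQ1, sy, sQ1i, si, sQ1]) (b := []) (by decide +kernel)
  simpa [mul_assoc] using h

theorem e_sU (hinj : Function.Injective rho) :
    g sQui * g si * g sQu = g stv := by
  have h := rel hinj (a := [sQui, si, sQu]) (b := [stv]) (by decide +kernel)
  simpa [mul_assoc] using h

end CfsgLib.J4Mult
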