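import Mathlib.Data.List.Basic

/-!
# The straight-line program for the certificates (generated)
-/

set_option autoImplicit false
set_option maxRecDepth 100000

namespace CfsgLib.J4Mult

/-- index -/
abbrev sx : ℕ := 0
/-- index -/
abbrev sy : ℕ := 1
/-- index -/
abbrev sv : ℕ := 2
/-- index -/
abbrev st : ℕ := 3
/-- index -/
abbrev su : ℕ := 4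
/-- index -/
abbrev sui : ℕ := 5
/-- index -/
abbrev sw : ℕ := 6
/-- index -/
abbrev swi : ℕ := 7
/-- index -/
abbrev stv : ℕ := 8
/-- index -/
abbrev sA1 : ℕ := 9
/-- index -/
abbrev sA : ℕ := 10
/-- index -/
abbrev sA1i : ℕ := 11
/-- index -/
abbrev sAi : ℕ := 12
/-- index -/
abbrev sA0 : ℕ := 13
/-- index -/
abbrev sW : ℕ := 14
/-- index -/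
abbrev si : ℕ := 15
/-- index -/
abbrev sh : ℕ := 16
/-- index -/
abbrev shi : ℕ := 17
/-- index -/
abbrev sxi : ℕ := 18
/-- index -/
abbrev sMX : ℕ := 19
/-- index -/
abbrev sMXi : ℕ := 20
/-- index -/
abbrev sRX : ℕ := 21
/-- index -/
abbrev sKW : ℕ := 22
/-- index -/
abbrev sMwx : ℕ := 23
/-- index -/
abbrev sMwxi : ℕ := 24
/-- index -/
abbrev sRwx : ℕ := 25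
/-- index -/
abbrev sKA : ℕ := 26
/-- index -/
abbrev sMA : ℕ := 27
/-- index -/
abbrev sMAi : ℕ := 28
/-- index -/
abbrev sRA : ℕ := 29
/-- index -/
abbrev sQ1 : ℕ := 30
/-- index -/
abbrev sQ1i : ℕ := 31
/-- index -/
abbrev sG0 : ℕ := 32
/-- index -/
abbrev sG0i : ℕ := 33
/-- index -/
abbrev sJ1 : ℕ := 34
/-- index -/
abbrev sMj1 : ℕ := 35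
/-- index -/
abbrev sMj1i : ℕ := 36
/-- index -/
abbrev sRj1 : ℕ := 37
/-- index -/
abbrev sQu : ℕ := 38
/-- index -/
abbrev sQui : ℕ := 39
/-- index -/
abbrev sQa : ℕ := 40
/-- index -/
abbrev sQai : ℕ := 41
/-- index -/
abbrev sHq : ℕ := 42
/-- index -/
abbrev sHqi : ℕ := 43
/-- index -/
abbrev sr1 : ℕ := 44
/-- index -/
abbrev sr1i : ℕ := 45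
/-- index -/
abbrev sjj1 : ℕ := 46
/-- index -/
abbrev sjm1 : ℕ := 47
/-- index -/
abbrev sk1 : ℕ := 48
/-- index -/
abbrev sg1 : ℕ := 49
/-- index -/
abbrev sl1 : ℕ := 50
/-- index -/
abbrev sa1 : ℕ := 51
/-- index -/
abbrev sMl1 : ℕ := 52
/-- index -/
abbrev sMl1i : ℕ := 53
/-- index -/
abbrev sRl1 : ℕ := 54
/-- index -/
abbrev sr2 : ℕ := 55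
/-- index -/
abbrev sr2i : ℕ := 56
/-- index -/
abbrev sjj2 : ℕ := 57
/-- index -/
abbrev sjm2 : ℕ := 58
/-- index -/
abbrev sk2 : ℕ := 59
/-- index -/
abbrev sg2 : ℕ := 60
/-- index -/
abbrev sl2 : ℕ := 61
/-- index -/
abbrev sa2 : ℕ := 62
/-- index -/
abbrev sMl2 : ℕ := 63
/-- index -/
abbrev sMl2i : ℕ := 64
/-- index -/
abbrev sRl2 : ℕ := 65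
/-- index -/
abbrev sc : ℕ := 66
/-- index -/
abbrev sci : ℕ := 67
/-- index -/
abbrev sS0 : ℕ := 68
/-- index -/
abbrev sS0i : ℕ := 69
/-- index -/
abbrev sS2 : ℕ := 70
/-- index -/
abbrev sS2i : ℕ := 71
/-- index -/
abbrev sk : ℕ := 72
/-- index -/
abbrev sG : ℕ := 73
/-- index -/
abbrev sm0 : ℕ := 74
/-- index -/
abbrev sm0i : ℕ := 75
/-- index -/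
abbrev sla : ℕ := 76
/-- index -/
abbrev sca : ℕ := 77
/-- index -/
abbrev scai : ℕ := 78
/-- index -/
abbrev sMla : ℕ := 79
/-- index -/
abbrev sMlai : ℕ := 80
/-- index -/
abbrev sRla : ℕ := 81
/-- index -/
abbrev sk2i : ℕ := 82
/-- index -/
abbrev sg2i : ℕ := 83
/-- index -/
abbrev sm4 : ℕ := 84
/-- index -/
abbrev sm4i : ℕ := 85
/-- index -/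
abbrev sl4 : ℕ := 86
/-- index -/
abbrev scb : ℕ := 87
/-- index -/
abbrev scbi : ℕ := 88
/-- index -/
abbrev sMl4 : ℕ := 89
/-- index -/
abbrev sMl4i : ℕ := 90
/-- index -/
abbrev sRl4 : ℕ := 91
/-- steps -/
def prog0 : List (List ℕ) :=
  [[1, 0, 2, 0, 1, 0, 2, 0],
    [0, 1, 0, 2, 0, 1, 0, 2],
    [0, 1, 0, 1, 0, 1, 1, 0, 1, 0, 1, 0, 1, 0, 1, 0, 1, 0, 1, 1],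
    [1, 0, 2, 0, 2, 0, 2, 0, 2, 0, 2, 0, 1, 0, 2, 0, 2, 0],
    [7, 3, 6],
    [1, 0, 1, 0, 1, 0, 1],
    [9, 9, 9],
    [2, 0, 2, 0, 2, 0, 2],
    [11, 11, 11],
    [10, 10],
    [1, 0, 1, 0, 2, 0, 2, 0, 1, 0, 1, 0, 1],
    [0, 1, 0, 2, 0, 2, 0, 1, 0, 2, 0, 1, 0, 2, 0, 1, 0, 2, 0, 2, 0, 1, 0, 2, 0, 1, 0, 2],
    [2, 0, 2, 0, 1, 0, 1, 3, 2, 0, 2, 0, 2, 0, 1, 0, 2, 0, 2, 0, 1, 0, 2, 0, 1, 0, 2, 0, 1, 0, 2, 0, 2, 0, 1, 0, 2, 0, 2, 0, 1, 3, 2, 0, 2, 0, 1, 0, 1, 3, 2, 0, 2, 0, 1, 0, 1, 3, 2, 0, 2, 0, 2, 0, 1, 0, 2, 0, 2, 0, 1, 0, 2, 0, 1, 0, 2, 0, 1, 0, 2, 0, 2, 0, 1, 0, 2, 0, 2, 0, 1, 3, 2, 0, 2, 0, 1, 0, 1, 3, 2, 0, 2, 0, 1, 0, 1, 3, 2, 0, 2, 0, 2],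
    [1, 0, 1, 0, 1, 3, 2, 0, 2, 0, 1, 0, 1, 3, 2, 0, 2, 0, 1, 0, 1, 3, 2, 0, 1, 0, 1, 0, 2, 0, 1, 0, 1, 0, 2, 0, 1, 0, 2, 0, 1, 0, 2, 0, 1, 0, 1, 0, 2, 0, 1, 0, 1, 0, 1, 3, 2, 0, 2, 0, 1, 0, 1, 3, 2, 0, 2, 0, 1, 0, 1, 3, 2, 0, 1, 0, 1, 0, 2, 0, 1, 0, 1, 0, 2, 0, 1, 0, 2, 0, 1, 0, 2, 0, 1, 0, 1, 0, 2, 0, 1, 0, 1, 0, 1, 3, 2, 0, 2, 0, 1, 0, 1],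
    [17, 0, 16],
    [0, 1, 0, 1, 0, 1, 0, 2, 0, 2, 0, 2, 0, 1, 0, 1, 0, 1, 0, 2, 0, 2, 0, 2, 0, 1, 0, 1, 0, 1, 0, 2, 0, 2, 0, 2, 0, 1, 0, 1, 0, 1, 0, 2, 0, 2, 0, 2, 0, 1, 0, 1, 0, 1, 0, 2, 0, 2, 0, 2, 0, 1, 0, 1, 0, 1],
    [2, 0, 2, 0, 2, 0, 1, 0, 1, 0, 1, 0, 2, 0, 2, 0, 2, 0, 1, 0, 1, 0, 1, 0, 2, 0, 2, 0, 2, 0, 1, 0, 1, 0, 1, 0, 2, 0, 2, 0, 2, 0, 1, 0, 1, 0, 1, 0, 2, 0, 2, 0, 2, 0, 1, 0, 1, 0, 1, 0, 2, 0, 2, 0, 2, 0],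
    [20, 3],
    [17, 14, 0, 16],
    []]

/-- steps -/
def prog1 : List (List ℕ) :=
  [[],
    [24, 22],
    [17, 10, 16],
    [],
    [],
    [18, 28, 26],
    [17, 4],
    [5, 16],
    [30, 1, 31],
    [30, 2, 31],
    [33, 15, 32],
    [0, 2, 0, 1, 0, 2, 0, 2, 0, 1, 0, 2, 0, 1, 0, 2, 0, 1, 0, 2, 0, 2, 0, 1, 0, 2, 0, 1, 0, 1, 0, 2, 0, 2, 0, 1, 0, 2, 0, 1, 0, 2, 0, 1, 0, 2, 0, 2, 0, 1, 0, 2, 0, 1, 0, 2, 0, 2],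
    [1, 0, 1, 0, 2, 0, 1, 0, 2, 0, 1, 0, 1, 0, 2, 0, 1, 0, 2, 0, 1, 0, 2, 0, 1, 0, 1, 0, 2, 0, 2, 0, 1, 0, 2, 0, 1, 0, 1, 0, 2, 0, 1, 0, 2, 0, 1, 0, 2, 0, 1, 0, 1, 0, 2, 0, 1, 0],
    [36, 34],
    [17, 6],
    [7, 16],
    [38, 10],
    [12, 39],
    [17, 8],
    [8, 16]]

/-- steps -/
def prog2 : List (List ℕ) :=
  [[1, 0, 1, 0, 2, 0, 1, 0, 2, 0, 1, 0, 2, 0, 2],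
    [1, 0, 1, 0, 2, 0, 1, 0, 2, 0, 1, 0, 2, 0, 2],
    [40, 39, 15, 38, 41],
    [45, 15, 44],
    [47, 46, 47, 46],
    [41, 48],
    [38, 49, 45],
    [15, 45, 15, 44],
    [],
    [],
    [53, 50],
    [1, 0, 1, 0, 2, 0, 2, 0, 1],
    [2, 0, 1, 0, 1, 0, 2, 0, 2],
    [17, 43, 15, 42, 16],
    [56, 15, 55],
    [58, 57, 58, 57],
    [16, 59],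
    [42, 60, 56],
    [15, 56, 15, 55],
    [0, 1, 0, 2, 0, 2, 0, 1, 0, 2, 0, 1, 0, 2, 0, 1, 0, 2, 0, 1, 0, 1, 0, 2, 0, 1, 0, 2, 0, 1, 0, 2, 0, 2, 0, 1, 0, 2, 0]]

/-- steps -/
def prog3 : List (List ℕ) :=
  [[0, 1, 0, 2, 0, 1, 0, 1, 0, 2, 0, 1, 0, 2, 0, 1, 0, 2, 0, 2, 0, 1, 0, 2, 0, 1, 0, 2, 0, 1, 0, 2, 0, 1, 0, 1, 0, 2, 0],
    [64, 61],
    [2, 0, 1, 0, 2, 0, 1, 0, 2, 0, 1, 0, 2, 0, 1, 0, 2, 0, 2, 0, 1, 0, 2, 0, 1, 0, 2, 0, 2, 0, 1, 0, 2, 0, 1, 0, 2, 0, 1, 0, 2, 0, 2, 0, 1, 0, 2, 0, 2, 0, 2, 0, 1, 0, 2, 0, 1, 0, 2, 0, 2, 0, 1, 0, 2, 0, 2, 0, 1, 0, 2, 0, 1, 0, 2, 0, 1, 0, 2, 0, 2, 0, 1, 0, 2, 0, 2, 0, 2, 0, 1, 0, 2, 0, 1, 0, 1, 0, 1, 0, 1, 0, 2, 0, 1, 0, 2, 0, 1, 0, 2, 0, 1,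 0, 2, 0, 1, 0, 1, 0, 2, 0, 2, 0, 1, 0, 2, 0, 1, 0, 2, 0, 1, 0, 2, 0, 2, 0, 1, 0, 2, 0, 1, 0, 1, 0, 1, 0, 2, 0, 1, 0, 2, 0, 1, 0, 2, 0, 1, 0, 2, 0, 2, 0, 1, 0, 2, 0, 1, 0, 2, 0, 2, 0, 1, 0, 2, 0, 1, 0, 2, 0, 1, 0, 2, 0, 2, 0, 1, 0, 2, 0, 2, 0, 2, 0, 1, 0, 2, 0, 1, 0, 2, 0, 2, 0, 1, 0, 2, 0, 2, 0, 1, 0, 2, 0, 1, 0, 2, 0, 1, 0, 2, 0, 2, 0, 1, 0, 2, 0, 2, 0, 2, 0, 1, 0, 2, 0, 1, 0, 1, 0, 1, 0, 1, 0, 2, 0, 1, 0, 2, 0, 1, 0, 2, 0, 1, 0, 2, 0, 1, 0, 1, 0, 2, 0, 2, 0, 1, 0, 2, 0, 1, 0, 2, 0, 1, 0, 2, 0, 2, 0, 1, 0, 2, 0, 1, 0, 1, 0, 1, 0, 2, 0, 1, 0, 2, 0, 1, 0, 2, 0, 1, 0, 2, 0, 2, 0, 1, 0, 2],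
    [1, 0, 2, 0, 1, 0, 1, 0, 2, 0, 1, 0, 2, 0, 1, 0, 2, 0, 1, 0, 2, 0, 2, 0, 2, 0, 1, 0, 2, 0, 1, 0, 1, 0, 2, 0, 1, 0, 2, 0, 1, 0, 2, 0, 1, 0, 1, 0, 2, 0, 2, 0, 1, 0, 2, 0, 1, 0, 2, 0, 1, 0, 2, 0, 1, 0, 2, 0, 2, 0, 2, 0, 2, 0, 1, 0, 2, 0, 1, 0, 1, 0, 1, 0, 2, 0, 1, 0, 1, 0, 2, 0, 1, 0, 2, 0, 1, 0, 2, 0, 1, 0, 1, 0, 2, 0, 1, 0, 1, 0, 2, 0, 1, 0, 2, 0, 1, 0, 1, 0, 1, 0, 2, 0, 1, 0, 1, 0, 2, 0, 1, 0, 2, 0, 1, 0, 2, 0, 1, 0, 1, 0, 2, 0, 1, 0, 2, 0, 1, 0, 1, 0, 2, 0, 1, 0, 2, 0, 1, 0, 2, 0, 1, 0, 2, 0, 2, 0, 2, 0, 1, 0, 2, 0, 1, 0, 1, 0, 2, 0, 1, 0, 2, 0, 1, 0, 2, 0, 1, 0, 1, 0, 2, 0, 2, 0, 1, 0, 2, 0, 1, 0, 2, 0, 1, 0, 2, 0, 1, 0, 2, 0, 2, 0, 2, 0, 2, 0, 1, 0, 2, 0, 1, 0, 1, 0, 1,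 0, 2, 0, 1, 0, 1, 0, 2, 0, 1, 0, 2, 0, 1, 0, 2, 0, 1, 0, 1, 0, 2, 0, 1, 0, 1, 0, 2, 0, 1, 0, 2, 0, 1, 0, 1, 0, 1, 0, 2, 0, 1, 0, 1, 0, 2, 0, 1, 0, 2, 0, 1, 0, 2, 0, 1, 0, 1, 0, 2, 0, 1, 0, 2, 0, 1, 0, 1, 0, 2, 0, 1, 0, 2, 0, 1, 0, 2, 0, 1, 0, 2, 0, 1],
    [1, 0, 2, 0, 2, 0, 2, 0, 2, 0, 2, 0, 1, 0, 2, 0, 2, 0, 1, 0, 2, 0, 1, 0, 2, 0, 1, 0, 2, 0, 2, 0, 1, 0, 2, 0, 2, 0, 1, 0, 1, 0, 1, 0, 2, 0, 1, 0, 2, 0, 2, 0, 1, 0, 2, 0, 1, 0, 2, 0, 1, 0, 2, 0, 2, 0, 1, 0, 1, 0, 2, 0, 2, 0, 2],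
    [1, 0, 1, 0, 1, 0, 2, 0, 2, 0, 1, 0, 1, 0, 2, 0, 1, 0, 2, 0, 1, 0, 2, 0, 1, 0, 1, 0, 2, 0, 1, 0, 2, 0, 2, 0, 2, 0, 1, 0, 1, 0, 2, 0, 1, 0, 1, 0, 2, 0, 1, 0, 2, 0, 1, 0, 2, 0, 1, 0, 1, 0, 2, 0, 1, 0, 1, 0, 1, 0, 1, 0, 1, 0, 2],
    [0, 1, 0, 2, 0, 2, 0, 1, 0, 2, 0, 1, 0, 2, 0, 1, 0, 2, 0, 1, 0, 1, 0, 2, 0, 1, 0, 2, 0, 1, 0, 2, 0, 2, 0, 1, 0, 2, 0],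
    [0, 1, 0, 2, 0, 1, 0, 1, 0, 2, 0, 1, 0, 2, 0, 1, 0, 2, 0, 2, 0, 1, 0, 2, 0, 1, 0, 2, 0, 1, 0, 2, 0, 1, 0, 1, 0, 2, 0],
    [67, 68, 66, 67, 18, 66, 67, 70, 66],
    [49, 72],
    [0, 1, 0, 2, 0, 1, 0, 1, 0, 1, 0, 1, 0, 2, 0, 1],
    [2, 0, 1, 0, 2, 0, 2, 0, 2, 0, 2, 0, 1, 0, 2, 0],
    [73, 75],
    [1, 0, 2, 0, 2, 0, 1, 0, 1, 0, 2, 0, 1, 0, 1, 0, 2, 0, 1, 0, 1, 0, 2, 0, 1, 0, 1, 0, 2, 0, 1, 0, 1, 0, 2, 0, 1, 0, 2, 0, 2, 0, 1, 0, 2, 0, 2, 0, 1, 0, 2, 0, 1, 0, 2, 0, 1, 0, 2, 0, 2, 0, 1, 0, 1, 0, 1, 0, 1, 0, 2, 0, 1, 0, 1, 0, 2, 0, 1, 0, 1, 0, 2, 0, 1, 0, 1, 0, 2, 0, 1, 0, 1, 0, 2, 0, 1, 0, 2, 0, 2, 0, 1, 0, 2, 0, 2, 0, 1, 0, 2, 0, 1, 0, 2, 0, 1, 0, 2, 0, 2, 0, 1, 0],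
    [0, 2, 0, 1, 0, 1, 0, 2, 0, 1, 0, 2, 0, 1, 0, 2, 0, 1, 0, 1, 0, 2, 0, 1, 0, 1, 0, 2, 0, 1, 0, 2, 0, 2, 0, 1, 0, 2, 0, 2, 0, 1, 0, 2, 0, 2, 0, 1, 0, 2, 0, 2, 0, 1, 0, 2, 0, 2, 0, 2, 0, 2, 0, 1, 0, 1, 0, 2, 0, 1, 0, 2, 0, 1, 0, 2, 0, 1, 0, 1, 0, 2, 0, 1, 0, 1, 0, 2, 0, 1, 0, 2, 0, 2, 0, 1, 0, 2, 0, 2, 0, 1, 0, 2, 0, 2, 0, 1, 0, 2, 0, 2, 0, 1, 0, 2, 0, 2, 0, 1, 0, 1, 0, 2],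
    [0, 1, 0, 2, 0, 2, 0, 1, 0, 2, 0, 1, 0, 2, 0, 1, 0, 2, 0, 1, 0, 1, 0, 2, 0, 1, 0, 2, 0, 1, 0, 2, 0, 2, 0, 1, 0, 2, 0],
    [0, 1, 0, 2, 0, 1, 0, 1, 0, 2, 0, 1, 0, 2, 0, 1, 0, 2, 0, 2, 0, 1, 0, 2, 0, 1, 0, 2, 0, 1, 0, 2, 0, 1, 0, 1, 0, 2, 0],
    [78, 18, 80, 77, 76],
    [57, 58, 57, 58],
    [82, 17]]

/-- steps -/
def prog4 : List (List ℕ) :=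
  [[2, 0, 1, 0, 2, 0, 2, 0, 2, 0, 2, 0, 1, 0, 2, 0, 1, 0, 1, 0, 1, 0, 2, 0, 1, 0, 1, 0, 2, 0, 1, 0, 1, 0, 2, 0, 1, 0, 1, 0, 2, 0, 1, 0, 1, 0, 2, 0, 1, 0, 1, 0, 1, 0, 1, 0, 2, 0, 1, 0, 1, 0, 1, 0, 1, 0, 2, 0, 1, 0, 1, 0, 2, 0, 2, 0, 1, 0, 2, 0, 1, 0, 2, 0, 1, 0, 2, 0, 2, 0, 1, 0, 2, 0, 2, 0, 2, 0, 1, 0, 2, 0, 1, 0, 2, 0, 2, 0, 1, 0, 2, 0, 2, 0, 1, 0, 2, 0, 1, 0, 2, 0, 1, 0, 2, 0, 2, 0, 1, 0, 2, 0, 2, 0, 2, 0, 1, 0, 2, 0, 1, 0, 2, 0, 2, 0, 1, 0, 2, 0, 2, 0, 1, 0, 2, 0, 1, 0, 2, 0, 1, 0, 2, 0, 2, 0, 1, 0, 2, 0, 1, 0, 1, 0, 1, 0, 1, 0, 2, 0, 2, 0, 1, 0, 2, 0, 2, 0, 1, 0, 2, 0, 1, 0, 2, 0, 1, 0, 2, 0, 2, 0, 1, 0, 2, 0, 2, 0, 1, 0, 2, 0, 2, 0, 2, 0, 1, 0, 2, 0, 1, 0, 1, 0, 1, 0, 2,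 0, 1, 0, 1, 0, 2, 0, 1, 0, 1, 0, 2, 0, 1, 0, 1, 0, 2, 0, 1, 0, 1, 0, 2, 0, 1, 0, 1, 0, 1, 0, 1, 0, 2, 0, 1, 0, 1, 0, 1, 0, 1, 0, 2, 0, 1, 0, 1, 0, 2, 0, 2, 0, 1, 0, 2, 0, 1, 0, 2, 0, 1, 0, 2, 0, 2, 0, 1, 0, 2, 0, 2, 0, 2, 0, 1, 0, 2, 0, 1, 0, 2, 0, 2, 0, 1, 0, 2, 0, 2, 0, 1, 0, 2, 0, 1, 0, 2, 0, 1, 0, 2, 0, 2, 0, 1, 0, 2, 0, 2, 0, 2, 0, 1, 0, 2, 0, 1, 0, 2, 0, 2, 0, 1, 0, 2, 0, 2, 0, 1, 0, 2, 0, 1, 0, 2, 0, 1, 0, 2, 0, 2, 0, 1, 0, 2, 0, 1, 0, 1, 0, 1, 0, 1, 0, 2, 0, 2, 0, 1, 0, 2, 0, 2, 0, 1, 0, 2, 0, 1, 0, 2, 0, 1, 0, 2, 0, 2, 0, 1, 0, 2, 0, 2, 0, 2, 0, 2, 0, 1],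
    [2, 0, 1, 0, 1, 0, 1, 0, 1, 0, 2, 0, 1, 0, 1, 0, 2, 0, 1, 0, 2, 0, 1, 0, 2, 0, 1, 0, 1, 0, 2, 0, 1, 0, 1, 0, 2, 0, 2, 0, 2, 0, 2, 0, 1, 0, 2, 0, 1, 0, 1, 0, 2, 0, 1, 0, 2, 0, 1, 0, 2, 0, 1, 0, 1, 0, 2, 0, 1, 0, 1, 0, 2, 0, 1, 0, 2, 0, 1, 0, 1, 0, 1, 0, 2, 0, 1, 0, 1, 0, 2, 0, 1, 0, 2, 0, 1, 0, 2, 0, 1, 0, 1, 0, 2, 0, 1, 0, 1, 0, 2, 0, 1, 0, 2, 0, 1, 0, 1, 0, 1, 0, 2, 0, 1, 0, 1, 0, 2, 0, 1, 0, 2, 0, 1, 0, 2, 0, 1, 0, 1, 0, 2, 0, 2, 0, 1, 0, 2, 0, 2, 0, 2, 0, 2, 0, 1, 0, 2, 0, 2, 0, 2, 0, 2, 0, 1, 0, 2, 0, 2, 0, 1, 0, 2, 0, 2, 0, 1, 0, 2, 0, 2, 0, 1, 0, 2, 0, 2, 0, 1, 0, 2, 0, 2, 0, 2, 0, 1, 0, 2, 0, 1, 0, 1, 0, 1, 0, 2, 0, 1, 0, 1, 0, 2, 0, 1, 0, 1, 0, 2, 0, 1, 0, 2, 0, 1,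 0, 2, 0, 1, 0, 1, 0, 2, 0, 1, 0, 1, 0, 2, 0, 2, 0, 2, 0, 2, 0, 1, 0, 2, 0, 1, 0, 1, 0, 2, 0, 1, 0, 2, 0, 1, 0, 2, 0, 1, 0, 1, 0, 2, 0, 1, 0, 1, 0, 2, 0, 1, 0, 2, 0, 1, 0, 1, 0, 1, 0, 2, 0, 1, 0, 1, 0, 2, 0, 1, 0, 2, 0, 1, 0, 2, 0, 1, 0, 1, 0, 2, 0, 1, 0, 1, 0, 2, 0, 1, 0, 2, 0, 1, 0, 1, 0, 1, 0, 2, 0, 1, 0, 1, 0, 2, 0, 1, 0, 2, 0, 1, 0, 2, 0, 1, 0, 1, 0, 2, 0, 2, 0, 1, 0, 2, 0, 2, 0, 2, 0, 2, 0, 1, 0, 2, 0, 2, 0, 2, 0, 2, 0, 1, 0, 2, 0, 2, 0, 1, 0, 2, 0, 2, 0, 1, 0, 2, 0, 2, 0, 1, 0, 2, 0, 2, 0, 1, 0, 2, 0, 2, 0, 2, 0, 1, 0, 2, 0, 1, 0, 1, 0, 1, 0, 1, 0, 2, 0, 1],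
    [83, 73, 85],
    [0, 1, 0, 2, 0, 2, 0, 2, 0, 1, 0, 1, 0, 2, 0, 2, 0, 1, 0, 2, 0, 1, 0, 2, 0, 1, 0, 2, 0, 2, 0, 1, 0, 2, 0, 1, 0, 1, 0, 1, 0, 1, 0, 2, 0, 2, 0, 1, 0, 2, 0, 2, 0, 1, 0, 2, 0, 1, 0, 2, 0, 1, 0, 2, 0, 2, 0, 1, 0, 2, 0, 2, 0, 2, 0, 1, 0, 2, 0, 1, 0, 2, 0, 1, 0, 2, 0, 2, 0, 1, 0, 2, 0, 1, 0, 2, 0, 1, 0, 2, 0, 2, 0, 2, 0, 1],
    [2, 0, 1, 0, 1, 0, 1, 0, 2, 0, 1, 0, 2, 0, 1, 0, 2, 0, 1, 0, 1, 0, 2, 0, 1, 0, 2, 0, 1, 0, 2, 0, 1, 0, 1, 0, 1, 0, 2, 0, 1, 0, 1, 0, 2, 0, 1, 0, 2, 0, 1, 0, 2, 0, 1, 0, 1, 0, 2, 0, 1, 0, 1, 0, 2, 0, 2, 0, 2, 0, 2, 0, 1, 0, 2, 0, 1, 0, 1, 0, 2, 0, 1, 0, 2, 0, 1, 0, 2, 0, 1, 0, 1, 0, 2, 0, 2, 0, 1, 0, 1, 0, 1, 0, 2, 0],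
    [0, 2, 0, 1, 0, 2, 0, 2, 0, 1, 0, 2, 0, 1, 0, 2, 0, 1, 0, 2, 0, 2, 0, 1, 0, 2, 0, 1, 0, 1, 0, 2, 0, 2, 0, 1, 0, 2, 0, 1, 0, 2, 0, 1, 0, 2, 0, 2, 0, 1, 0, 2, 0, 1, 0, 2, 0, 2],
    [1, 0, 1, 0, 2, 0, 1, 0, 2, 0, 1, 0, 1, 0, 2, 0, 1, 0, 2, 0, 1, 0, 2, 0, 1, 0, 1, 0, 2, 0, 2, 0, 1, 0, 2, 0, 1, 0, 1, 0, 2, 0, 1, 0, 2, 0, 1, 0, 2, 0, 1, 0, 1, 0, 2, 0, 1, 0],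
    [88, 90, 87, 86]]

/-- the program -/
def prog : List (List ℕ) :=
  prog0 ++ prog1 ++ prog2 ++ prog3 ++ prog4

/-- words in x and y only -/
def inD : List ℕ := [0, 1, 2, 4, 5, 6, 7, 9, 10, 11, 12, 13, 14, 15, 19, 20, 23, 24, 27, 28, 35, 36, 44, 45, 47, 51, 52, 53, 55, 56, 58, 62, 63, 64, 66, 67, 68, 69, 70, 71, 74, 75, 77, 78, 79, 80, 84, 85, 87, 88, 89, 90]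

end CfsgLib.J4Mult
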