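import Cfsg.Agent.Lib.J4G.Gens
import Cfsg.Agent.Lib.J4Mult.Prog
import Cfsg.Agent.Lib.J4Mult.Vals0
import Cfsg.Agent.Lib.J4Mult.Vals1
import Cfsg.Agent.Lib.J4Mult.Vals2
import Cfsg.Agent.Lib.J4Mult.Vals3

/-!
# Elements of the presented group given by the program, and the checks on their packed values
-/

set_option autoImplicit false
set_option maxRecDepth 100000

namespace CfsgLib.J4Mult

open Cfsg.Spor CfsgLib.J4P CfsgLib.J4G

variable {M : Type*} [Monoid M]

/-- The value of a step in a list of elements. -/
def evalG (env : List M) (w : List ℕ) : M := (w.map fun i => env.getD i 1).prod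

/-- The list built by a program. -/
def runG : List (List ℕ) → List M → List M
  | [], env => env
  | w :: p, env => runG p (env ++ [evalG env w])

theorem runG_prefix : ∀ (p : List (List ℕ)) (env : List M) (i : ℕ), i < env.length →
    (runG p env).getD i 1 = env.getD i 1
  | [], _, _, _ => rfl
  | w :: p, env, i, hi => by
    rw [runG, runG_prefix p _ i (by rw [List.length_append]; omega),
      List.getD_append _ _ _ _ hi]

theorem runG_step : ∀ (p : List (List ℕ)) (env : List M) (n : ℕ), n < p.length →
    (∀ i ∈ p.getD n [], i < env.length + n) →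
    (runG p env).getD (env.length + n) 1 = evalG (runG p env) (p.getD n [])
  | [], _, n, hn, _ => absurd hn (Nat.not_lt_zero n)
  | w :: p, env, 0, _, h => by
    simp only [Nat.add_zero, List.getD_cons_zero] at h ⊢
    rw [runG, runG_prefix p _ _ (by simp), List.getD_append_right _ _ _ _ le_rfl, Nat.sub_self,
      List.getD_cons_zero]
    refine congrArg List.prod (List.map_congr_left fun i hi => ?_)
    rw [runG_prefix p _ i (by rw [List.length_append]; have := h i hi; omega),
      List.getD_append _ _ _ _ (h i hi)]
  | w :: p, env, n + 1, hn, h => by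
    have ih := runG_step p (env ++ [evalG env w]) n (by simpa using hn) (fun i hi => by
      have := h i (by simpa using hi)
      simp only [List.length_append, List.length_cons, List.length_nil]; omega)
    simp only [List.length_append, List.length_cons, List.length_nil] at ih
    rw [runG, show env.length + (n + 1) = env.length + (0 + 1) + n by omega, ih, List.getD_cons_succ]

/-- The four starting elements. -/
def jBase : List Cfsg.Spor.J4 :=
  [PresentedGroup.of J4.Gen.x, PresentedGroup.of J4.Gen.y, (PresentedGroup.of J4.Gen.y)⁻¹,
    PresentedGroup.of J4.Gen.t]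

/-- The element with an index. -/
def g (i : ℕ) : Cfsg.Spor.J4 := (runG prog jBase).getD i 1

/-- The packed values. -/
def valsL : List ℕ := vals0 ++ vals1 ++ vals2 ++ vals3

/-- The check of a step. -/
noncomputable def stepChk (n : ℕ) : Bool :=
  (prog.getD n []).all (fun i => Nat.blt i (4 + n)) &&
    Nat.beq (evalP valsL (prog.getD n [])) (valsL.getD (4 + n) idP)

theorem start_checks : (valsL.take 4 == env4) = true ∧ prog.length = 88 := by
  refine ⟨?_, ?_⟩ <;> decide +kernel

theorem steps_a : ((List.range 22).all stepChk) = true := by decide +kernel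
theorem steps_b : (((List.range 22).map (22 + ·)).all stepChk) = true := by decide +kernel
theorem steps_c : (((List.range 22).map (44 + ·)).all stepChk) = true := by decide +kernel
theorem steps_d : (((List.range 22).map (66 + ·)).all stepChk) = true := by decide +kernel

theorem steps_all {n : ℕ} (hn : n < 88) : stepChk n = true := by
  have key : ∀ b, ((List.range 22).map (b + ·)).all stepChk = true → b ≤ n → n < b + 22 →
      stepChk n = true := fun b h h1 h2 =>
    List.all_eq_true.1 h n (List.mem_map.2 ⟨n - b, List.mem_range.2 (by omega), by omega⟩)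
  by_cases h1 : n < 22
  · exact List.all_eq_true.1 steps_a n (List.mem_range.2 h1)
  by_cases h2 : n < 44
  · exact key 22 steps_b (by omega) (by omega)
  by_cases h3 : n < 66
  · exact key 44 steps_c (by omega) (by omega)
  · exact key 66 steps_d (by omega) (by omega)

theorem step_lt {n : ℕ} (hn : n < 88) : ∀ i ∈ prog.getD n [], i < 4 + n := fun i hi => by
  have h := steps_all hn
  rw [stepChk, Bool.and_eq_true] at h
  exact Nat.le_of_ble_eq_true (List.all_eq_true.1 h.1 i hi)

theorem g_step {n : ℕ} (hn : n < 88) : g (4 + n) = ((prog.getD n []).map g).prod :=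
  runG_step prog jBase n (by rw [start_checks.2]; exact hn) (step_lt hn)

theorem rep_word {f : ℕ → GL2} {V : ℕ → ℕ} : ∀ (w : List ℕ), (∀ i ∈ w, Rep (f i) (V i)) →
    Rep (w.map f).prod (w.foldl (fun a i => mP a (V i)) idP) := by
  suffices ∀ (w : List ℕ) (a : GL2) (A : ℕ), Rep a A → (∀ i ∈ w, Rep (f i) (V i)) →
      Rep (a * (w.map f).prod) (w.foldl (fun a i => mP a (V i)) A) from
    fun w h => by simpa using this w 1 idP rep_one h
  intro w
  induction w with
  | nil => intro a A ha _; simpa using ha
  | cons i w ih =>
    intro a A ha h
    rw [List.map_cons, List.prod_cons, ← mul_assoc, List.foldl_cons]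
    exact ih _ _ (ha.mul (h i List.mem_cons_self)) fun j hj => h j (List.mem_cons_of_mem _ hj)

theorem rep_eval {w : List ℕ} (h : ∀ i ∈ w, Rep (rho (g i)) (valsL.getD i idP)) :
    Rep (rho (w.map g).prod) (evalP valsL w) := by
  rw [map_list_prod, List.map_map]
  exact rep_word (f := fun i => rho (g i)) w h

theorem rep_g : ∀ k, k < 92 → Rep (rho (g k)) (valsL.getD k idP) := by
  intro k
  induction k using Nat.strong_induction_on with
  | _ k ih =>
    intro hk
    by_cases h4 : k < 4
    · have e := eq_of_beq start_checks.1
      have ev : valsL.getD k idP = env4.getD k idP := by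
        rw [← e]
        simp only [List.getD_eq_getElem?_getD, List.getElem?_take, if_pos h4]
      have eg : g k = jBase.getD k 1 := runG_prefix prog jBase k h4
      rw [ev, eg]
      interval_cases k
      · exact (rho_of _).symm ▸ rep_X
      · exact (rho_of _).symm ▸ rep_Y
      · show Rep (rho (PresentedGroup.of J4.Gen.y)⁻¹) (letP 3)
        rw [map_inv, rho_of]; exact rep_Yi
      · exact (rho_of _).symm ▸ rep_T
    · obtain ⟨n, rfl⟩ : ∃ n, k = 4 + n := ⟨k - 4, by omega⟩
      have hn : n < 88 := by omega
      have h := steps_all hn
      rw [stepChk, Bool.and_eq_true] at h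
      rw [g_step hn, ← Nat.eq_of_beq_eq_true h.2]
      exact rep_eval fun i hi => ih i (step_lt hn i hi) (by have := step_lt hn i hi; omega)

/-- The check of an equation. -/
noncomputable def relChk (a b : List ℕ) : Bool :=
  a.all (fun i => Nat.blt i 92) && b.all (fun i => Nat.blt i 92) &&
    Nat.beq (evalP valsL a) (evalP valsL b)

/-- An equation of values is an equation in the presented group. -/
theorem rel (hinj : Function.Injective rho) {a b : List ℕ} (h : relChk a b = true) :
    (a.map g).prod = (b.map g).prod := by
  simp only [relChk, Bool.and_eq_true, List.all_eq_true] at h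
  obtain ⟨⟨ha, hb⟩, he⟩ := h
  exact hinj ((rep_eval fun i hi => rep_g i (Nat.le_of_ble_eq_true (ha i hi))).eq
    (rep_eval fun i hi => rep_g i (Nat.le_of_ble_eq_true (hb i hi))) (Nat.eq_of_beq_eq_true he))

end CfsgLib.J4Mult
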