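import Cfsg.Agent.Lib.J4Mult.Tails

/-!
# The Schur multiplier of the presented fourth Janko group is trivial
-/

set_option autoImplicit false
set_option maxRecDepth 100000
set_option linter.constructorNameAsVariable false

namespace CfsgLib.J4Mult

open Cfsg.Spor CfsgLib.J4P
open scoped commutatorElement

/-- x, y and the adjusted preimage of t. -/
noncomputable def genE {E : Type} [Group E] (C : Cov Cfsg.Spor.J4 E) (δ : ↥pXY →* E) :
    J4.Gen → E
  | .x => dd δ (g sx)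
  | .y => dd δ (g sy)
  | .t => tT C δ * (dd δ (g sy) * tU C δ) ^ 3

/-- Each stem extension is an isomorphism. -/
theorem stem_injective (hinj : Function.Injective rho) (E : Type) [Group E]
    (σ : E →* Cfsg.Spor.J4) (hσ : Cfsg.IsStemExtension σ) : Function.Injective σ := by
  let C : Cov Cfsg.Spor.J4 E := ⟨σ, hσ.1, hσ.2.1⟩
  obtain ⟨δ, hδ⟩ := exists_delta C
  set Y := dd δ (g sy) with hY
  set z := (Y * tU C δ) ^ 3 with hzdef
  obtain ⟨hz, hz2⟩ := cube_sq C δ hδ hinj
  rw [← hY, ← hzdef] at hz hz2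
  have hzc := Subgroup.mem_center_iff.1 (C.cen hz)
  have hcjz : ∀ k, C.cj k z = z := fun k => by
    rw [C.cj_apply, mul_assoc, ← hzc, inv_mul_cancel_left]
  have hrel : ∀ {r : FreeGroup J4.Gen}, r ∈ J4.extra → PresentedGroup.mk jRels r = 1 :=
    fun h => PresentedGroup.one_of_mem (Or.inr h)
  have hmemx := g_mem sx
  have hmemy := g_mem sy
  set px : ↥pXY := ⟨g sx, hmemx⟩ with hpx
  set py : ↥pXY := ⟨g sy, hmemy⟩ with hpy
  have hX : dd δ (g sx) = δ px := dd_eq δ hmemx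
  have hY' : Y = δ py := dd_eq δ hmemy
  have hone : ∀ p : ↥pXY, (p : Cfsg.Spor.J4) = 1 → δ p = 1 := fun p hp => by
    rw [show p = 1 from Subtype.ext hp, map_one]
  have hT2 : genE C δ .t * genE C δ .t = 1 := by
    show tT C δ * z * (tT C δ * z) = 1
    rw [mul_assoc, ← mul_assoc z, ← hzc (tT C δ), mul_assoc, ← pow_two, hz2, mul_one, tT_sq C δ hinj]
  have hTcomm : ∀ (k : Cfsg.Spor.J4) (h : k ∈ pXY), C.cj k (tT C δ) = tT C δ →
      genE C δ .t * δ ⟨k, h⟩ = δ ⟨k, h⟩ * genE C δ .t := fun k h hk => by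
    show tT C δ * z * δ ⟨k, h⟩ = δ ⟨k, h⟩ * (tT C δ * z)
    rw [mul_assoc, ← hzc (δ ⟨k, h⟩), ← mul_assoc, C.commute_of_fix hk (hδ ⟨k, h⟩), mul_assoc]
  have hf : ∀ r ∈ jRels, FreeGroup.lift (genE C δ) r = 1 := by
    intro r hr
    have hr' : r ∈ J4.extra := by
      rcases hr with ⟨x, hx, -⟩ | hr
      · exact absurd hx (by simp [coxNodes, J4.edges])
      · exact hr
    have h := hrel hr'
    simp only [J4.extra, List.mem_cons, List.not_mem_nil, or_false] at hr'
    have hgx : (px : Cfsg.Spor.J4) = PresentedGroup.of J4.Gen.x := g_sx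
    have hgy : (py : Cfsg.Spor.J4) = PresentedGroup.of J4.Gen.y := g_sy
    rcases hr' with rfl | rfl | rfl | rfl | rfl | rfl | rfl | rfl | rfl | rfl | rfl | rfl <;>
      simp only [J4.x, J4.y, J4.t, map_mul, map_pow, map_inv, FreeGroup.lift_apply_of] at h ⊢ <;>
      simp only [← PresentedGroup.of.eq_1] at h
    iterate 7
      · simp only [genE, hX, ← hY, hY', ← map_mul, ← map_pow, ← map_inv]
        refine hone _ ?_
        simpa only [Subgroup.coe_mul, SubgroupClass.coe_pow, Subgroup.coe_inv, hgx, hgy] using h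
    · rw [pow_two]; exact hT2
    · have hW : g sW = ((py * px * py * (px * py⁻¹) ^ 2 * (px * py) ^ 3 : ↥pXY) : Cfsg.Spor.J4) := by
        simp only [Subgroup.coe_mul, SubgroupClass.coe_pow, Subgroup.coe_inv]
        rw [e_def_sW hinj, g_sv]
        simp [px, py, pow_succ, mul_assoc]
      have hc := hTcomm _ (g_mem sW) (fix_W C δ hδ hinj)
      rw [show (⟨g sW, g_mem sW⟩ : ↥pXY) = py * px * py * (px * py⁻¹) ^ 2 * (px * py) ^ 3 from
        Subtype.ext hW] at hc
      simp only [map_mul, map_pow, map_inv, ← hX, ← hY'] at hc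
      generalize genE C δ .t = T at hc ⊢
      change T⁻¹ * (Y * dd δ (g sx) * Y * (dd δ (g sx) * Y⁻¹) ^ 2 * (dd δ (g sx) * Y) ^ 3)⁻¹ * T *
        (Y * dd δ (g sx) * Y * (dd δ (g sx) * Y⁻¹) ^ 2 * (dd δ (g sx) * Y) ^ 3) = 1
      generalize Y * dd δ (g sx) * Y * (dd δ (g sx) * Y⁻¹) ^ 2 * (dd δ (g sx) * Y) ^ 3 = W at hc ⊢
      rw [mul_assoc _ T W, hc]
      group
    · have hc := hTcomm _ hmemx (fix_x C δ hδ hinj)
      rw [← hpx, ← hX] at hc
      show (genE C δ .t)⁻¹ * (dd δ (g sx))⁻¹ * genE C δ .t * dd δ (g sx) = 1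
      rw [mul_assoc _ (genE C δ .t) (dd δ (g sx)), hc]
      group
    · have hu : g su = ((py * px * py⁻¹ * px * py * px * py⁻¹ * px : ↥pXY) : Cfsg.Spor.J4) := by
        simp only [Subgroup.coe_mul, Subgroup.coe_inv]
        rw [e_def_su hinj, g_sv]
      have hcu : C.cj (g su) (genE C δ .t) = tU C δ * z := by
        show C.cj (g su) (tT C δ * z) = _
        rw [map_mul, hcjz, ← tU_eq C δ hδ hinj]
      rw [C.cj_of (show C.σ (δ (py * px * py⁻¹ * px * py * px * py⁻¹ * px)) = g su by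
        rw [hδ, hu])] at hcu
      simp only [map_mul, map_inv, ← hX, ← hY'] at hcu
      show (Y * ((Y * dd δ (g sx) * Y⁻¹ * dd δ (g sx) * Y * dd δ (g sx) * Y⁻¹ * dd δ (g sx))⁻¹ *
        genE C δ .t * (Y * dd δ (g sx) * Y⁻¹ * dd δ (g sx) * Y * dd δ (g sx) * Y⁻¹ * dd δ (g sx)))) ^ 3 = 1
      rw [hcu, ← mul_assoc Y, (show Commute (Y * tU C δ) z from hzc _).mul_pow, ← hzdef]
      calc z * z ^ 3 = (z ^ 2) ^ 2 := by group
        _ = 1 := by rw [hz2, one_pow]
    · have hw : g sw = (((px * py) ^ 3 * py * (px * py) ^ 6 * py : ↥pXY) : Cfsg.Spor.J4) := by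
        simp only [Subgroup.coe_mul, SubgroupClass.coe_pow]
        rw [e_def_sw hinj]
        simp [px, py, pow_succ, mul_assoc]
      have hA : g sA = (((py * px * py * px * py * px * py) ^ 3 : ↥pXY) : Cfsg.Spor.J4) := by
        simp only [Subgroup.coe_mul, SubgroupClass.coe_pow]
        rw [e_def_sA hinj, e_def_sA1 hinj]
      have hcv : C.cj (g sw) (genE C δ .t) = tV C δ * z := by
        show C.cj (g sw) (tT C δ * z) = _
        rw [map_mul, hcjz, tV]
      rw [C.cj_of (show C.σ (δ ((px * py) ^ 3 * py * (px * py) ^ 6 * py)) = g sw by rw [hδ, hw])] at hcv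
      simp only [map_mul, map_pow, ← hX, ← hY'] at hcv
      have hl := last_rel C δ hδ hinj
      rw [dd_eq δ (g_mem sA), show (⟨g sA, g_mem sA⟩ : ↥pXY) = (py * px * py * px * py * px * py) ^ 3
        from Subtype.ext hA] at hl
      simp only [map_mul, map_pow, ← hX, ← hY'] at hl
      show (((Y * dd δ (g sx) * Y * dd δ (g sx) * Y * dd δ (g sx) * Y) ^ 3) * genE C δ .t *
        (((dd δ (g sx) * Y) ^ 3 * Y * (dd δ (g sx) * Y) ^ 6 * Y)⁻¹ * genE C δ .t *
          ((dd δ (g sx) * Y) ^ 3 * Y * (dd δ (g sx) * Y) ^ 6 * Y))) ^ 2 = 1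
      rw [hcv]
      show (_ * (tT C δ * z) * (tV C δ * z)) ^ 2 = 1
      generalize (Y * dd δ (g sx) * Y * dd δ (g sx) * Y * dd δ (g sx) * Y) ^ 3 = A at hl ⊢
      generalize tT C δ = T at hl ⊢
      generalize tV C δ = U at hl ⊢
      have e : A * (T * z) * (U * z) = A * T * U * z ^ 2 := by
        calc A * (T * z) * (U * z) = A * T * (z * U) * z := by group
          _ = A * T * U * z ^ 2 := by rw [← hzc U, pow_two]; simp only [mul_assoc]
      rw [e, hz2, mul_one, hl]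
  let Φ : Cfsg.Spor.J4 →* E := PresentedGroup.toGroup hf
  have hσΦ : σ.comp Φ = MonoidHom.id _ := by
    refine PresentedGroup.ext fun a => ?_
    rw [MonoidHom.comp_apply, PresentedGroup.toGroup.of, MonoidHom.id_apply]
    cases a
    · show σ (dd δ (g sx)) = _
      rw [← g_sx]; exact σ_dd C δ hδ hmemx
    · show σ (dd δ (g sy)) = _
      rw [← g_sy]; exact σ_dd C δ hδ hmemy
    · show C.σ (tT C δ * z) = _
      rw [map_mul, MonoidHom.mem_ker.1 hz, mul_one, σ_tT C δ hδ hinj, g_st]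
  have hsur : Function.Surjective Φ := by
    rw [← MonoidHom.range_eq_top]
    have hmul : ∀ a : E, ∃ r ∈ Φ.range, ∃ c ∈ Subgroup.center E, a = r * c := fun a =>
      ⟨Φ (σ a), ⟨_, rfl⟩, (Φ (σ a))⁻¹ * a, hσ.2.1 (by
        have e : σ (Φ (σ a)) = σ a := DFunLike.congr_fun hσΦ (σ a)
        rw [MonoidHom.mem_ker, map_mul, map_inv, e, inv_mul_cancel]),
        (mul_inv_cancel_left _ _).symm⟩
    have hcomm : commutator E ≤ Φ.range := by
      rw [commutator_def, Subgroup.commutator_le]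
      intro a _ b _
      obtain ⟨r, hr, c, hc, rfl⟩ := hmul a
      obtain ⟨r', hr', c', hc', rfl⟩ := hmul b
      have cz := Subgroup.mem_center_iff.1 hc
      have cz' := Subgroup.mem_center_iff.1 hc'
      have e : ⁅r * c, r' * c'⁆ = r * r' * r⁻¹ * r'⁻¹ := by
        rw [commutatorElement_def]
        calc r * c * (r' * c') * (r * c)⁻¹ * (r' * c')⁻¹
            = r * (c * (r' * c')) * c⁻¹ * r⁻¹ * c'⁻¹ * r'⁻¹ := by group
          _ = r * r' * (c' * r⁻¹) * c'⁻¹ * r'⁻¹ := by rw [← cz]; group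
          _ = r * r' * r⁻¹ * r'⁻¹ := by rw [← cz']; group
      rw [e]
      exact mul_mem (mul_mem (mul_mem hr hr') (inv_mem hr)) (inv_mem hr')
    refine eq_top_iff.2 fun a _ => ?_
    have e : σ (Φ (σ a)) = σ a := DFunLike.congr_fun hσΦ (σ a)
    have hk : (Φ (σ a))⁻¹ * a ∈ σ.ker := by
      rw [MonoidHom.mem_ker, map_mul, map_inv, e, inv_mul_cancel]
    rw [← mul_inv_cancel_left (Φ (σ a)) a]
    exact mul_mem ⟨_, rfl⟩ (hcomm (hσ.2.2 hk))
  intro a b h
  obtain ⟨a', rfl⟩ := hsur a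
  obtain ⟨b', rfl⟩ := hsur b
  have e := fun c => DFunLike.congr_fun hσΦ c
  simp only [MonoidHom.comp_apply, MonoidHom.id_apply] at e
  rw [← e a', ← e b', h]

end CfsgLib.J4Mult
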