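import Cfsg.Agent.Lib.J4Mult.Eval
import Cfsg.Agent.Lib.J4Mult.Delta

/-!
# The elements of the Mathieu subgroup among the values
-/

set_option autoImplicit false
set_option maxRecDepth 100000

namespace CfsgLib.J4Mult

theorem inD_check :
    (inD.all fun k => Nat.blt k 92 && (Nat.blt k 3 ||
      (Nat.ble 4 k && (prog.getD (k - 4) []).all fun i => inD.contains i))) = true := by
  decide +kernel

theorem mem_aux : ∀ k, k ∈ inD → g k ∈ pXY := by
  intro k
  induction k using Nat.strong_induction_on with
  | _ k ih =>
    intro hk
    have h := List.all_eq_true.1 inD_check k hk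
    simp only [Bool.and_eq_true, Bool.or_eq_true, List.all_eq_true] at h
    obtain ⟨h92, h3 | ⟨h4, hall⟩⟩ := h
    · have h3' : k < 3 := Nat.le_of_ble_eq_true h3
      have e : g k = jBase.getD k 1 := runG_prefix prog jBase k (by simp [jBase]; omega)
      rw [e]
      interval_cases k
      · exact Subgroup.subset_closure (Set.mem_insert _ _)
      · exact Subgroup.subset_closure (Set.mem_insert_of_mem _ rfl)
      · exact inv_mem (Subgroup.subset_closure (Set.mem_insert_of_mem _ rfl))
    · have h4' : 4 ≤ k := Nat.le_of_ble_eq_true h4
      have h92' : k < 92 := Nat.le_of_ble_eq_true h92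
      obtain ⟨n, rfl⟩ : ∃ n, k = 4 + n := ⟨k - 4, by omega⟩
      rw [show 4 + n - 4 = n by omega] at hall
      rw [g_step (by omega)]
      refine list_prod_mem fun a ha => ?_
      obtain ⟨i, hi, rfl⟩ := List.mem_map.1 ha
      exact ih i (step_lt (n := n) (by omega) i hi) (List.contains_iff_mem.1 (hall i hi))

/-- The values in the list lie in the subgroup on x and y. -/
theorem g_mem (k : ℕ) (h : inD.contains k = true := by decide +kernel) : g k ∈ pXY :=
  mem_aux k (List.contains_iff_mem.1 h)

end CfsgLib.J4Mult
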