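import Cfsg.Agent.Lib.J4Mult.Equations
import Cfsg.Agent.Lib.J4Mult.Members

/-!
# The central errors of the relations in a central extension vanish
-/

set_option autoImplicit false
set_option maxRecDepth 100000

namespace CfsgLib.J4Mult

open CfsgLib.J4P

variable {E : Type} [Group E] (C : Cov Cfsg.Spor.J4 E) (δ : ↥pXY →* E)

open Classical in
/-- The exact preimage, extended to all elements. -/
noncomputable def dd (x : Cfsg.Spor.J4) : E := if h : x ∈ pXY then δ ⟨x, h⟩ else 1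

theorem dd_eq {x : Cfsg.Spor.J4} (h : x ∈ pXY) : dd δ x = δ ⟨x, h⟩ := dif_pos h

theorem dd_mul {a b : Cfsg.Spor.J4} (ha : a ∈ pXY) (hb : b ∈ pXY) :
    dd δ (a * b) = dd δ a * dd δ b := by
  rw [dd_eq δ ha, dd_eq δ hb, dd_eq δ (mul_mem ha hb), ← map_mul]
  rfl

theorem dd_one : dd δ 1 = 1 := by
  rw [dd_eq δ (one_mem _), ← map_one δ]
  rfl

theorem dd_of_inv {a ai : Cfsg.Spor.J4} (ha : a ∈ pXY) (hai : ai ∈ pXY) (h : ai * a = 1) :
    dd δ ai = (dd δ a)⁻¹ :=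
  eq_inv_of_mul_eq_one_left (by rw [← dd_mul δ hai ha, h, dd_one])

variable (hδ : ∀ p, C.σ (δ p) = p)

include hδ in
theorem σ_dd {x : Cfsg.Spor.J4} (h : x ∈ pXY) : C.σ (dd δ x) = x := by rw [dd_eq δ h, hδ]

include hδ in
theorem fix_dd {a k : Cfsg.Spor.J4} (ha : a ∈ pXY) (hk : k ∈ pXY) (h : a * k = k * a) :
    C.cj k (dd δ a) = dd δ a :=
  C.fix_of_commute (σ_dd C δ hδ hk) (by rw [← dd_mul δ ha hk, ← dd_mul δ hk ha, h])

include hδ in
theorem cj_dd {a k ki : Cfsg.Spor.J4} (ha : a ∈ pXY) (hk : k ∈ pXY) (hki : ki ∈ pXY) (h : ki * k = 1) :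
    C.cj k (dd δ a) = dd δ (ki * a * k) := by
  rw [C.cj_of (σ_dd C δ hδ hk), dd_mul δ (mul_mem hki ha) hk, dd_mul δ hki ha, dd_of_inv δ hk hki h]

/-- The preimage of the first involution. -/
noncomputable def eI : E := dd δ (g si)

/-- The chosen preimage of t. -/
noncomputable def tT : E := C.cj (g shi) (eI δ)

/-- The conjugate preimage of t in the first long relation. -/
noncomputable def tU : E := C.cj (g sQ1) (eI δ)

variable (hinj : Function.Injective rho)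

include hinj in
theorem eI_sq : eI δ * eI δ = 1 := by
  rw [eI, ← dd_mul δ (g_mem si) (g_mem si), e_ii hinj, dd_one]

include hδ in
theorem σ_eI : C.σ (eI δ) = g si := σ_dd C δ hδ (g_mem si)

include hinj in
theorem tT_sq : tT C δ * tT C δ = 1 := by rw [tT, ← map_mul, eI_sq δ hinj, map_one]

include hδ hinj in
theorem σ_tT : C.σ (tT C δ) = g st := by
  rw [tT, C.σ_cj, σ_eI C δ hδ, inv_eq_of_mul_eq_one_right (e_hh hinj), e_tdef hinj]

include hinj in
theorem cj_sh : C.cj (g sh) (tT C δ) = eI δ := by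
  rw [tT, ← C.cj_mul, e_hh hinj, C.cj_one]

include hδ hinj in
theorem fix_x : C.cj (g sx) (tT C δ) = tT C δ := by
  have hX : C.cj (g st) (dd δ (g sx)) = dd δ (g sx) := by
    rw [e_xt_split hinj]
    refine C.fix_mul (fix_dd C δ hδ (g_mem sx) (g_mem sMX) (e_xt_m hinj)) ?_
    refine C.fix_odd (by decide) (e_xt_pow hinj) ?_ ?_
    · rw [← dd_mul δ (g_mem sx) (g_mem sx), e_xx hinj, dd_one]
    · rw [σ_dd C δ hδ (g_mem sx)]; exact e_xt_r hinj
  exact C.fix_of_commute (σ_dd C δ hδ (g_mem sx))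
    (C.commute_of_fix hX (σ_tT C δ hδ hinj)).symm

include hδ hinj in
theorem fix_xi : C.cj (g sxi) (eI δ) = eI δ := by
  rw [e_def_sxi hinj]
  exact C.fix_conj (e_hh hinj) (cj_sh C δ hinj) (fix_x C δ hδ hinj)

include hδ hinj in
theorem fix_two {n : ℕ} {m r : Cfsg.Spor.J4} (hn : Odd n) (hr : r ^ n = 1) (hm : m ∈ pXY)
    (h1 : g si * m = m * g si) (h2 : g si * r = r * g si) : C.cj (m * r) (eI δ) = eI δ :=
  C.fix_mul (fix_dd C δ hδ (g_mem si) hm h1)
    (C.fix_odd hn hr (eI_sq δ hinj) (by rw [σ_eI C δ hδ]; exact h2))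

include hδ hinj in
theorem fix_W : C.cj (g sW) (tT C δ) = tT C δ := by
  rw [e_kw hinj]
  refine C.fix_mul ?_ (fix_x C δ hδ hinj)
  refine C.fix_conj (e_hh2 hinj) rfl ?_
  rw [e_wx_split hinj]
  exact fix_two C δ hδ hinj (by decide) (e_wx_pow hinj) (g_mem sMwx) (e_wx_m hinj) (e_wx_r hinj)

include hδ hinj in
theorem fix_A : C.cj (g sA) (tT C δ) = tT C δ := by
  rw [e_ka hinj]
  refine C.fix_conj (e_hh2 hinj) rfl ?_
  rw [e_A_split hinj]
  refine C.fix_mul (C.fix_mul (fix_dd C δ hδ (g_mem si) (g_mem sMA) (e_A_m hinj))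
    (fix_xi C δ hδ hinj)) ?_
  exact C.fix_odd (by decide) (e_A_pow hinj) (eI_sq δ hinj) (by rw [σ_eI C δ hδ]; exact e_A_r hinj)

include hδ hinj in
theorem tU_eq : tU C δ = C.cj (g su) (tT C δ) := by rw [tU, tT, ← C.cj_mul, e_q1d hinj]

include hδ hinj in
theorem σ_tU : C.σ (tU C δ) = g sQ1i * g si * g sQ1 := by
  rw [tU, C.σ_cj, σ_eI C δ hδ, inv_eq_of_mul_eq_one_left (e_q1 hinj)]

include hδ hinj in
theorem cube_sq :
    (dd δ (g sy) * tU C δ) ^ 3 ∈ C.σ.ker ∧ ((dd δ (g sy) * tU C δ) ^ 3) ^ 2 = 1 := by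
  refine ⟨?_, ?_⟩
  · rw [MonoidHom.mem_ker, map_pow, map_mul, σ_dd C δ hδ (g_mem sy), σ_tU C δ hδ hinj]
    have h := e_eleven hinj
    simpa [pow_succ, mul_assoc] using h
  set Y := dd δ (g sy) with hY
  set A := tU C δ with hA
  have hsq : A * A = 1 := by rw [hA, tU, ← map_mul, eI_sq δ hinj, map_one]
  have hy3 : Y * Y * Y = 1 := by
    have hy := g_mem sy
    rw [hY, ← dd_mul δ hy hy, ← dd_mul δ (mul_mem hy hy) hy, g_sy]
    have h3 : (PresentedGroup.of Cfsg.Spor.J4.Gen.y : Cfsg.Spor.J4) ^ 3 = 1 := by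
      rw [PresentedGroup.of, ← map_pow]
      exact PresentedGroup.one_of_mem (Or.inr (by simp [Cfsg.Spor.J4.extra, Cfsg.Spor.J4.y]))
    rw [show ∀ b : Cfsg.Spor.J4, b * b * b = b ^ 3 from fun b => (pow_three' b).symm, h3, dd_one]
  have hJ : C.cj (g sJ1) (eI δ) = eI δ := by
    rw [e_j1_split hinj]
    exact fix_two C δ hδ hinj (by decide) (e_j1_pow hinj) (g_mem sMj1) (e_j1_m hinj) (e_j1_r hinj)
  have hσf : C.σ (C.cj (g sG0) (eI δ)) = g sJ1 := by
    rw [C.σ_cj, σ_eI C δ hδ, inv_eq_of_mul_eq_one_left (e_g0 hinj), e_def_sJ1 hinj]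
  have hc := C.commute_of_fix hJ hσf
  have h12 : A * C.cj (g sy) A = C.cj (g sy) A * A := by
    have h := congrArg (C.cj (g sQ1)) hc
    rw [map_mul, map_mul, ← C.cj_mul, show g sG0 * g sQ1 = g sQ1 * g sy by
      rw [e_def_sG0 hinj, mul_assoc, e_q1 hinj, mul_one], C.cj_mul] at h
    exact h
  set B := C.cj (g sy) A with hB
  set D' := C.cj (g sy) B with hD
  have h23 : B * D' = D' * B := by rw [hD, hB, ← map_mul, ← map_mul, h12]
  have hcy : C.cj (g sy) D' = A := by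
    rw [hD, hB, ← C.cj_mul, ← C.cj_mul, C.cj_of (d := Y * Y * Y) (by
      rw [map_mul, map_mul, hY, σ_dd C δ hδ (g_mem sy), mul_assoc]), hy3]
    group
  have h31 : D' * A = A * D' := by
    have := congrArg (C.cj (g sy)) h23
    rw [map_mul, map_mul, ← hD, hcy] at this
    exact this
  have hB' : B = Y⁻¹ * A * Y := C.cj_of (σ_dd C δ hδ (g_mem sy)) A
  have hD' : D' = Y⁻¹ * B * Y := C.cj_of (σ_dd C δ hδ (g_mem sy)) B
  have e : (Y * A) ^ 3 = D' * B * A := by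
    rw [hD', hB', pow_three']
    calc Y * A * (Y * A) * (Y * A) = (Y * Y * Y)⁻¹ * (Y * A * (Y * A) * (Y * A)) := by
          rw [hy3, inv_one, one_mul]
      _ = _ := by group
  have hB2 : B * B = 1 := by rw [hB, ← map_mul, hsq, map_one]
  have hD2 : D' * D' = 1 := by rw [hD, ← map_mul, hB2, map_one]
  rw [e, pow_two]
  calc D' * B * A * (D' * B * A) = D' * B * (A * D') * B * A := by group
    _ = D' * (B * D') * (A * B) * A := by rw [← h31]; group
    _ = D' * D' * (B * B) * (A * A) := by rw [h23, h12]; group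
    _ = 1 := by rw [hD2, hB2, hsq, one_mul, one_mul]

/-- The conjugate preimage of t in the last relation. -/
noncomputable def tV : E := C.cj (g sw) (tT C δ)

include hδ hinj in
theorem last_eq :
    dd δ (g sA0) * C.cj (g sA) (tV C δ) * tV C δ = tT C δ * C.cj (g stv) (tT C δ) := by
  have hUA : C.cj (g sA) (tV C δ) = C.cj (g sQa) (eI δ) := by
    rw [tV, tT, ← C.cj_mul, ← C.cj_mul, e_qa_eq hinj, mul_assoc]
  have hU : tV C δ = C.cj (g sQu) (eI δ) := by rw [tV, tT, ← C.cj_mul, ← e_qu_eq hinj]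
  have hTU : C.cj (g stv) (tT C δ) = C.cj (g sHq) (eI δ) := by
    rw [tT, ← C.cj_mul, ← e_hq_eq hinj]
  have hσi : C.σ (eI δ) = g si := σ_eI C δ hδ
  have hk1 : C.cj (g sk1) (eI δ) = eI δ :=
    C.fix_odd (by decide) (e_k1_pow hinj) (eI_sq δ hinj) (by rw [hσi]; exact e_k1_c hinj)
  have hk2 : C.cj (g sk2) (eI δ) = eI δ :=
    C.fix_odd (by decide) (e_k2_pow hinj) (eI_sq δ hinj) (by rw [hσi]; exact e_k2_c hinj)
  have hl1 : C.cj (g sl1) (eI δ) = eI δ := by
    rw [e_l1_split hinj]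
    exact fix_two C δ hδ hinj (by decide) (e_l1_pow hinj) (g_mem sMl1) (e_l1_m hinj) (e_l1_r hinj)
  have hl2 : C.cj (g sl2) (eI δ) = eI δ := by
    rw [e_l2_split hinj]
    exact fix_two C δ hδ hinj (by decide) (e_l2_pow hinj) (g_mem sMl2) (e_l2_m hinj) (e_l2_r hinj)
  have hi := g_mem si
  have hr1 := g_mem sr1
  have hr1i := g_mem sr1i
  have hr2 := g_mem sr2
  have hr2i := g_mem sr2i
  have hP : C.cj (g sg1) (C.cj (g sQa) (eI δ) * C.cj (g sQu) (eI δ)) = dd δ (g sa1) := by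
    rw [map_mul, ← C.cj_mul, ← C.cj_mul, e_k1_a hinj, hk1, e_k1_b hinj, C.cj_mul, hl1, eI,
      cj_dd C δ hδ hi hr1 hr1i (e_r1 hinj), ← dd_mul δ hi (mul_mem (mul_mem hr1i hi) hr1)]
    simp only [e_def_sa1 hinj, mul_assoc]
  have hQ : C.cj (g sg2) (tT C δ * C.cj (g sHq) (eI δ)) = dd δ (g sa2) := by
    rw [tT, map_mul, ← C.cj_mul, ← C.cj_mul, e_k2_a hinj, hk2, e_k2_b hinj, C.cj_mul, hl2, eI,
      cj_dd C δ hδ hi hr2 hr2i (e_r2 hinj), ← dd_mul δ hi (mul_mem (mul_mem hr2i hi) hr2)]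
    simp only [e_def_sa2 hinj, mul_assoc]
  have hconj : ∀ {c ci a : ℕ}, g c ∈ pXY → g ci ∈ pXY → g ci * g c = 1 →
      g a = g ci * g si * g c → C.cj (g c) (eI δ) = dd δ (g a) := fun hc hci h h' => by
    rw [eI, cj_dd C δ hδ hi hc hci h, h']
  have ha1 := hconj (g_mem sc) (g_mem sci) (e_c1 hinj) (e_a1c hinj)
  have hk : C.cj (g sk) (dd δ (g sa1)) = dd δ (g sa1) := by
    have e : g sk = (g sci * g sS0 * g sc) * (g sci * g sxi * g sc) * (g sci * g sS2 * g sc) := by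
      rw [e_kdef hinj]; simp only [mul_assoc]
    rw [e]
    refine C.fix_mul (C.fix_mul ?_ ?_) ?_
    · exact C.fix_conj (e_c1 hinj) ha1 (fix_dd C δ hδ hi (g_mem sS0) (e_S0_m hinj))
    · exact C.fix_conj (e_c1 hinj) ha1 (fix_xi C δ hδ hinj)
    · exact C.fix_conj (e_c1 hinj) ha1 (fix_dd C δ hδ hi (g_mem sS2) (e_S2_m hinj))
  have ha0 := hconj (g_mem sca) (g_mem scai) (e_ca hinj) (e_a0c hinj)
  have hinv : ∀ {c a : ℕ}, C.cj (g c) (eI δ) = dd δ (g a) → dd δ (g a) * dd δ (g a) = 1 :=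
    fun h => by rw [← h, ← map_mul, eI_sq δ hinj, map_one]
  have hla : C.cj (g sla) (dd δ (g sA0)) = dd δ (g sA0) := by
    have e : g sla = g scai * (g sMla * g sxi) * g sca * g sRla := by
      rw [e_la_split hinj]; simp only [mul_assoc]
    rw [e]
    refine C.fix_mul (C.fix_conj (e_ca hinj) ha0
      (C.fix_mul (fix_dd C δ hδ hi (g_mem sMla) (e_la_m hinj)) (fix_xi C δ hδ hinj))) ?_
    exact C.fix_odd (by decide) (e_la_pow hinj) (hinv ha0)
      (by rw [σ_dd C δ hδ (g_mem sA0)]; exact e_la_r hinj)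
  have ha2 := hconj (g_mem scb) (g_mem scbi) (e_cb hinj) (e_a2c hinj)
  have hl4 : C.cj (g sl4) (dd δ (g sa2)) = dd δ (g sa2) := by
    rw [e_l4_split hinj]
    refine C.fix_mul (C.fix_conj (e_cb hinj) ha2 (fix_dd C δ hδ hi (g_mem sMl4) (e_l4_m hinj))) ?_
    exact C.fix_odd (by decide) (e_l4_pow hinj) (hinv ha2)
      (by rw [σ_dd C δ hδ (g_mem sa2)]; exact e_l4_r hinj)
  have hL : C.cj (g sG) (dd δ (g sA0) * (C.cj (g sQa) (eI δ) * C.cj (g sQu) (eI δ))) =
      dd δ (g sm0i * g sA0 * g sm0 * g sa1) := by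
    rw [map_mul]
    conv_lhs => arg 1; rw [e_Gla hinj, C.cj_mul, hla,
      cj_dd C δ hδ (g_mem sA0) (g_mem sm0) (g_mem sm0i) (e_m0 hinj)]
    rw [e_g1k hinj, C.cj_mul, hP, hk, ← dd_mul δ
      (mul_mem (mul_mem (g_mem sm0i) (g_mem sA0)) (g_mem sm0)) (g_mem sa1)]
  have hR : C.cj (g sG) (tT C δ * C.cj (g sHq) (eI δ)) = dd δ (g sm4i * g sa2 * g sm4) := by
    rw [e_Gl4 hinj, C.cj_mul, C.cj_mul, hQ, hl4,
      cj_dd C δ hδ (g_mem sa2) (g_mem sm4) (g_mem sm4i) (e_m4 hinj)]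
  have hinjG : Function.Injective (C.cj (g sG)) := fun a b h => by
    have := congrArg (C.cj (g sG)⁻¹) h
    rwa [← C.cj_mul, ← C.cj_mul, mul_inv_cancel, C.cj_one, C.cj_one] at this
  rw [hUA, hTU, mul_assoc, hU]
  refine hinjG ?_
  rw [hL, hR, e_final hinj]

include hδ hinj in
theorem last_rel : (dd δ (g sA) * tT C δ * tV C δ) ^ 2 = 1 := by
  have h := last_eq C δ hδ hinj
  have hσU : C.σ (tV C δ) = g stv := by
    rw [tV, C.σ_cj, σ_tT C δ hδ hinj, inv_eq_of_mul_eq_one_left (e_ww hinj), e_tv hinj]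
  rw [C.cj_of hσU, C.cj_of (σ_dd C δ hδ (g_mem sA)), e_A0 hinj,
    dd_mul δ (g_mem sA) (g_mem sA)] at h
  have hT := tT_sq C δ hinj
  have hU : tV C δ * tV C δ = 1 := by rw [tV, ← map_mul, hT, map_one]
  rw [inv_eq_of_mul_eq_one_left hU] at h
  have hAT := C.commute_of_fix (fix_A C δ hδ hinj) (σ_dd C δ hδ (g_mem sA))
  generalize dd δ (g sA) = A at *
  generalize tT C δ = T at *
  generalize tV C δ = U at *
  have h' : A * U * A = T * U * T := by
    refine mul_right_cancel (b := U) ?_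
    calc A * U * A * U = A * A * (A⁻¹ * U * A) * U := by group
      _ = T * (U * T * U) := h
      _ = T * U * T * U := by group
  calc (A * T * U) ^ 2 = A * T * U * (A * T) * U := by rw [pow_two]; group
    _ = T * A * U * (A * T) * U := by rw [← hAT]
    _ = T * (A * U * A) * (T * U) := by group
    _ = T * T * U * (T * T) * U := by rw [h']; group
    _ = 1 := by rw [hT, one_mul, mul_one, hU]

end CfsgLib.J4Mult
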